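import Cfsg.Agent.SpMult.Central
import Cfsg.Agent.SLMult.PSL
import Cfsg.Agent.ChevMult.SmallCerts
import Cfsg.Agent.ChevMult.SmallField
import Cfsg.Agent.OrthElem.Iso
import Cfsg.Agent.Quad.KleinSymp
import Cfsg.Agent.Quad.CharTwoOdd
import Cfsg.Agent.Classical.SymplecticSimple

/-!
Over more than two elements all finite central extensions of `Sp₄` split: compare with the universal
group of type B₂.
-/

set_option autoImplicit false
set_option linter.style.haveILetI false

namespace CfsgLib.SpMult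

open Subgroup Cfsg.Lie CfsgLib.Chev CfsgLib.ChevMult

universe u

variable {F : Type u} [Field F] [Fintype F]

theorem exists_ne_zero_one (h3 : 3 ≤ Fintype.card F) : ∃ a : F, a ≠ 0 ∧ a ≠ 1 := by
  classical
  obtain ⟨x, hx⟩ := Finset.exists_mem_notMem_of_card_lt_card (s := ({0, 1} : Finset F))
    (t := Finset.univ) ((Finset.card_le_two).trans_lt (by rw [Finset.card_univ]; omega))
  exact ⟨x, fun e => hx.2 (by simp [e]), fun e => hx.2 (by simp [e])⟩

theorem perfect_four (h3 : 3 ≤ Fintype.card F) :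
    commutator (Matrix.symplecticGroup (Fin 2) F) = ⊤ :=
  CfsgLib.Symp.commutator_eq_top (CfsgLib.Symp.cond_of_finite 2
    (Or.inr (Or.inl ⟨rfl, by rwa [Nat.card_eq_fintype_card]⟩)))

/-- Steinberg's relations lift. -/
theorem hlift_B2 (h3 : 3 ≤ Fintype.card F) (Γ : Type u) [Group Γ] (S : CentExt good_B2 F Γ) :
    ∃ τ : chevB2.SteinbergCover F →* Γ,
      ∀ r < chevB2.nroots, ∀ t, S.π (τ (chevB2.scGen F r t)) = good_B2.full.x r t := by
  by_cases h4 : 4 ≤ Fintype.card F
  · have hm : ∀ n, 1 ≤ n → n ≤ B2Tor.cfg.m → ∃ a : Fˣ, a ^ n ≠ 1 :=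
      fun n h1 (h2 : n ≤ 2) => exists_pow_ne_of_card h1 (by omega)
    have hU : ∀ c ∈ B2Tor.cfg.U, (c : F) ≠ 0 := fun c hc => by
      simp [B2Tor.cfg] at hc; subst hc; simp
    by_cases h5 : 4 < Fintype.card F
    · exact CentExt.exists_hom_tor (CentExt.torHyp S hm hU (fun _ => ⟨Finset.univ, h5⟩)
        B2Tor.cfg_ok)
    · refine CentExt.exists_hom_tor (CentExt.torHyp' S hm hU ?_ B2Tor.cfg_ok)
      intro _ r hr hv t u g h hg hh
      have hs := (allBelow_iff _ _).1 b2Self_ok r hr
      rw [Bool.or_eq_true, Bool.not_eq_true', List.any_eq_false] at hs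
      rcases hs with hs | hs
      · obtain ⟨v, hvm, hv⟩ := hv
        exact absurd (by rw [hv]; exact Nat.beq_refl 1) (hs v hvm)
      · exact S.commute_self hr (S.com_of_chk hm hU B2Tor.cfg_ok) hs hg hh
  · have hq : Fintype.card F = 3 := by omega
    exact CentExt.exists_hom_three S (natCast_surj_of_card_three hq)
      (three_eq_zero_of_card_three hq) (two_ne_zero_of_card_three hq) b2Three_ok

/-- The kernel of the torus map of type B₂. -/
theorem card_hT_ker :
    Nat.card (B2Data.tab.hT F).ker ≤ Nat.gcd 2 (Fintype.card F - 1) := by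
  have key : ∀ c, c ∈ (B2Data.tab.hT F).ker → c ⟨0, by decide⟩ ^ 2 = 1 ∧ c ⟨1, by decide⟩ = 1 := by
    intro c hc
    rw [MonoidHom.mem_ker, good_B2.full.hT_eq_one_iff] at hc
    have h0 := hc 0 (by decide)
    have h1 := hc 1 (by decide)
    have e : ∀ s, B2Data.tab.chi s c =
        c ⟨0, by decide⟩ ^ B2Data.tab.cart 0 s * c ⟨1, by decide⟩ ^ B2Data.tab.cart 1 s :=
      fun s => (Fin.prod_univ_two (f := fun i : Fin 2 => c i ^ B2Data.tab.cart i.val s))
    rw [e, show B2Data.tab.cart 0 (chevB2.simple 0) = 2 by decide,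
      show B2Data.tab.cart 1 (chevB2.simple 0) = -1 by decide, zpow_neg_one, mul_inv_eq_one] at h0
    rw [e, show B2Data.tab.cart 0 (chevB2.simple 1) = -2 by decide,
      show B2Data.tab.cart 1 (chevB2.simple 1) = 2 by decide, ← h0] at h1
    rw [← zpow_mul, ← zpow_add, show (-2 : ℤ) + 2 * 2 = 2 by norm_num] at h1
    rw [h1] at h0
    exact ⟨by exact_mod_cast h1, h0.symm⟩
  let g : (B2Data.tab.hT F).ker → (powMonoidHom 2 : Fˣ →* Fˣ).ker := fun c =>
    ⟨c.1 ⟨0, by decide⟩, (key c.1 c.2).1⟩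
  have hg : Function.Injective g := fun a b h => Subtype.ext (funext fun i => by
    match i with
    | ⟨0, _⟩ => exact congrArg Subtype.val h
    | ⟨1, _⟩ => exact ((key a.1 a.2).2).trans (key b.1 b.2).2.symm)
  refine (Nat.card_le_card_of_injective g hg).trans ?_
  rw [IsCyclic.card_powMonoidHom_ker, Nat.card_units, Nat.card_eq_fintype_card, Nat.gcd_comm]

/-- The kernel of the cover has at most `gcd(2, q - 1)` elements. -/
theorem card_scθ_ker :
    Nat.card (good_B2.scθ F).ker ≤ Nat.gcd 2 (Fintype.card F - 1) := by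
  have hW : B2Data.tab.HasWit := ⟨_, wits_B2⟩
  let S := good_B2.scData (good_B2.scθ F) (fun r t hr => good_B2.coe_scθ hr t)
  obtain ⟨e, he⟩ := cover_iso (K := F) (D := chevB2) (by simp)
  have hhb : ∀ (j : Fin chevB2.rank) (t u : Fˣ),
      S.hb j (t : F) * S.hb j (u : F) = S.hb j ((t * u : Fˣ) : F) := fun j t u => by
    refine e.injective ?_
    have key : ∀ v : F, e (S.hb j v) =
        (good_B2.stData (good_B2.stθ F) fun r t hr => good_B2.coe_stθ hr t).hb j v := fun v => by
      simp [Tab.Good.StData.hb, Tab.Good.StData.nb, S, Tab.Good.scData, Tab.Good.stData, he]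
    rw [map_mul, key, key, key, good_B2.st_hb_mul]
  let φ : Fin chevB2.rank → Fˣ →* chevB2.SteinbergCover F := fun j =>
    MonoidHom.mk' (fun t => S.hb j (t : F)) (fun t u => (hhb j t u).symm)
  let H : (Fin chevB2.rank → Fˣ) →* chevB2.SteinbergCover F :=
    MonoidHom.noncommPiCoprod φ fun i j _ t u => S.hb_commute hW hhb i j t u
  have hH : ∀ j t, H (Pi.mulSingle j t) = S.hb j (t : F) := fun j t =>
    MonoidHom.noncommPiCoprod_mulSingle _ _ _
  have hθ : ∀ c, S.θ (H c) = B2Data.tab.hT F c := fun c => by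
    induction c using good_B2.full.hT_induction with
    | h1 => simp
    | hm a b ha hb => simp [ha, hb]
    | hs i u => rw [hH, S.θ_hb, good_B2.full.hT_single]
  have hle : (good_B2.scθ F).ker ≤ (B2Data.tab.hT F).ker.map H := by
    intro g hg
    have hg' : g ∈ S.θ.ker := congrArg Subtype.val (MonoidHom.mem_ker.1 hg)
    have hHB : S.HB ≤ H.range := by
      rw [Tab.Good.StData.HB, Subgroup.closure_le]
      rintro _ ⟨j, t, rfl⟩
      exact ⟨_, hH j t⟩
    obtain ⟨c, rfl⟩ := hHB (S.ker_le_HB hW hg')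
    refine ⟨c, ?_, rfl⟩
    rw [SetLike.mem_coe, MonoidHom.mem_ker, ← hθ]
    exact hg'
  refine le_trans ?_ (le_trans (Nat.card_le_card_of_surjective _
    (H.subgroupMap_surjective (B2Data.tab.hT F).ker)) card_hT_ker)
  have : Finite ((B2Data.tab.hT F).ker.map H) :=
    Finite.of_surjective _ (H.subgroupMap_surjective (B2Data.tab.hT F).ker)
  exact Nat.card_le_card_of_injective _ (Subgroup.inclusion_injective hle)

/-- `PSp₄` as a group of type B₂. -/
theorem nonempty_psp4 (h3 : 3 ≤ Fintype.card F) : Nonempty (↥(chevB2.group F) ≃* Cfsg.PSp 2 F) := by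
  obtain ⟨e⟩ := CfsgLib.OrthElem.nonempty_B2 (F := F) (exists_ne_zero_one h3)
  by_cases h2 : (2 : F) = 0
  · haveI : CharP F 2 := CharTwo.of_one_ne_zero_of_two_eq_zero one_ne_zero h2
    let eI := CfsgLib.Quad.CharTwoOdd.oddEquivSymp (F := F) 2
    have htop : Cfsg.Omega F (Cfsg.quadFormOdd 2 F) = ⊤ := by
      show commutator _ = ⊤
      refine Subgroup.map_injective (f := eI.toMonoidHom) eI.injective ?_
      rw [Subgroup.map_top_of_surjective eI.toMonoidHom eI.surjective,
        CfsgLib.Schur.map_commutator_of_surjective eI.toMonoidHom eI.surjective, perfect_four h3]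
    let e1 := ((MulEquiv.subgroupCongr htop).trans Subgroup.topEquiv).trans eI
    exact ⟨e.trans (QuotientGroup.congr _ _ e1 (CfsgLib.Quad.map_center_equiv e1))⟩
  · obtain ⟨e2⟩ := CfsgLib.Quad.nonempty_pOmega_five (F := F) h2
    rw [CfsgLib.Quad.oddQ_coe] at e2
    exact ⟨e.trans e2⟩

/-- **The base case**. -/
theorem splits_four (h3 : 3 ≤ Fintype.card F) : Splits (Matrix.symplecticGroup (Fin 2) F) := by
  intro Γ _ _ π hπ hc
  classical
  have hperf := perfect_four h3
  have hW : B2Data.tab.HasWit := ⟨_, wits_B2⟩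
  have hst := SLMult.derived_stem π hπ hc hperf
  set π₁ := π.comp (commutator Γ).subtype
  have hperfΓ : commutator (commutator Γ) = ⊤ := by
    rw [eq_top_iff]
    rintro g -
    obtain ⟨h, hh, e1⟩ := (Schur.map_commutator_of_surjective π₁ hst.1).ge (hperf ▸ mem_top (π₁ g))
    have h1 : h⁻¹ * g ∈ π₁.ker := by rw [MonoidHom.mem_ker, map_mul, map_inv, e1, inv_mul_cancel]
    simpa using mul_mem hh (hst.2.2 h1)
  obtain ⟨i⟩ := nonempty_psp4 (F := F) h3
  let σ : commutator Γ →* ↥(chevB2.group F) :=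
    i.symm.toMonoidHom.comp ((QuotientGroup.mk' _).comp π₁)
  have hσ : Cfsg.IsStemExtension σ := by
    refine ⟨i.symm.surjective.comp ((QuotientGroup.mk'_surjective _).comp hst.1), fun z hz => ?_,
      by rw [hperfΓ]; exact le_top⟩
    have hz' : π₁ z ∈ center (Matrix.symplecticGroup (Fin 2) F) := by
      rw [← QuotientGroup.eq_one_iff]
      exact i.symm.injective ((MonoidHom.mem_ker.1 hz).trans (map_one i.symm).symm)
    rw [mem_center_iff]
    exact fun y => commute_of_perfect hperfΓ hst.2.1 (MonoidHom.id _) z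
      (fun p => mem_center_iff.1 hz' _) y
  obtain ⟨τ, hτ⟩ := hlift_B2 h3 _ (ofStem σ hσ)
  obtain ⟨hτs, -, -⟩ := stem_lift (G := good_B2) σ hσ τ hτ
  have hfin := finite_scθ_ker (F := F) good_B2 hW (by simp)
  have := finite_cover good_B2 hfin
  have hQ : Nat.card (chevB2.SteinbergCover F) = Nat.card ↥(chevB2.group F) * Nat.card (good_B2.scθ F).ker := by
    rw [Subgroup.card_eq_card_quotient_mul_card_subgroup (good_B2.scθ F).ker,
      Nat.card_congr (QuotientGroup.quotientKerEquivOfSurjective _ (scθ_surjective good_B2)).toEquiv]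
  have hSp : Nat.card (Matrix.symplecticGroup (Fin 2) F) =
      Nat.card ↥(chevB2.group F) * Nat.gcd 2 (Fintype.card F - 1) := by
    rw [Subgroup.card_eq_card_quotient_mul_card_subgroup (center (Matrix.symplecticGroup (Fin 2) F)),
      CfsgLib.Symp.card_center, Nat.card_eq_fintype_card (α := F), Nat.card_congr i.toEquiv]
  have hle : Nat.card (commutator Γ) ≤ Nat.card (Matrix.symplecticGroup (Fin 2) F) :=
    (Nat.card_le_card_of_surjective τ hτs).trans (by
      rw [hQ, hSp]; exact Nat.mul_le_mul_left _ card_scθ_ker)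
  have hb : Function.Bijective π₁ := (Nat.bijective_iff_surjective_and_card π₁).2
    ⟨hst.1, le_antisymm hle (Nat.card_le_card_of_surjective π₁ hst.1)⟩
  let e := MulEquiv.ofBijective π₁ hb
  exact ⟨(commutator Γ).subtype.comp e.symm.toMonoidHom, fun g => e.apply_symm_apply g⟩

end CfsgLib.SpMult
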