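import Cfsg.Agent.SpMult.Two

/-!
Over two elements: existence of normalised lifts of the transvections from `Sp₈(2)` on.
-/

set_option autoImplicit false
set_option linter.style.haveILetI false

namespace CfsgLib.SpMult

open Matrix Subgroup CfsgLib.SpPres
open scoped commutatorElement IsMulCommutative

universe u v

variable {F : Type u} [Field F]

/-- Lifts of a perfect group commute with whatever commutes with it below. -/
theorem commute_of_perfect' {P : Type v} [Group P] (hP : commutator P = ⊤) {Γ : Type u} [Group Γ] {G : Type u}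
    [Group G] {π : Γ →* G} (hπ : Function.Surjective π) (hc : π.ker ≤ center Γ) (f : P →* G) (y : Γ)
    (h : ∀ p, f p * π y = π y * f p) {p : P} {x : Γ} (hx : π x = f p) : x * y = y * x := by
  let L : P → Γ := fun p => Function.surjInv hπ (f p)
  have hL : ∀ p, π (L p) = f p := fun p => Function.surjInv_eq hπ (f p)
  have hmem : ∀ {x : Γ} p, π x = f p → ⁅x, y⁆ ∈ center Γ := fun p hp =>
    comm_mem_center hc (by rw [hp]; exact h p)
  have hind : ∀ {a b : Γ} p, π a = f p → π b = f p → ⁅a, y⁆ = ⁅b, y⁆ := fun {a b} p ha hb => by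
    have hz : b⁻¹ * a ∈ center Γ := hc (by rw [MonoidHom.mem_ker, map_mul, map_inv, ha, hb, inv_mul_cancel])
    have h1 : ⁅b⁻¹ * a, y⁆ = 1 := commutatorElement_eq_one_iff_mul_comm.2 (mem_center_iff.1 hz y).symm
    rw [show a = b * (b⁻¹ * a) by group, comm_mul_left _ _ _ (by rw [h1]; exact one_mem _), h1, mul_one]
  let ψ : P →* center Γ := MonoidHom.mk' (fun p => ⟨⁅L p, y⁆, hmem p (hL p)⟩) fun a b => Subtype.ext (by
    show ⁅L (a * b), y⁆ = ⁅L a, y⁆ * ⁅L b, y⁆
    rw [← comm_mul_left _ _ _ (hmem b (hL b))]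
    exact hind (a * b) (hL _) (by rw [map_mul, hL, hL, map_mul]))
  have hp : p ∈ ψ.ker := Abelianization.commutator_subset_ker ψ (hP.symm ▸ Subgroup.mem_top p)
  refine commutatorElement_eq_one_iff_mul_comm.1 ?_
  rw [hind p hx (hL p)]
  exact congrArg Subtype.val (MonoidHom.mem_ker.1 hp)

theorem tr_sq [CharP F 2] {n : ℕ} (v : Vec F n) : tr v * tr v = 1 := by
  refine αSp_injective <| LinearEquiv.ext fun x => ?_
  rw [αSp_mul, α_tr, α_tr, map_one, map_add, map_smul, bl_alt, smul_zero, add_zero, add_assoc, ← add_smul,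
    CharTwo.add_self_eq_zero, zero_smul, add_zero]
  rfl

theorem lantern_below [CharP F 2] {n : ℕ} {a b c : Vec F n} (hab : bl a b = 0) (hac : bl a c = 0) (hbc : bl b c = 0) :
    tr a * tr b * tr c * tr (a + b + c) = tr (a + b) * tr (a + c) * tr (b + c) := by
  have hba : bl b a = 0 := by rw [bl_skew, hab, neg_zero]
  have hca : bl c a = 0 := by rw [bl_skew, hac, neg_zero]
  have hcb : bl c b = 0 := by rw [bl_skew, hbc, neg_zero]
  refine αSp_injective <| LinearEquiv.ext fun x => ?_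
  simp only [αSp_mul, α_tr, map_add, map_smul, LinearMap.add_apply, bl_alt, hab, hba, hac, hca, hbc, hcb,
    smul_eq_mul, mul_zero, add_zero]
  match_scalars
  all_goals first
    | ring
    | linear_combination (0 : F) * (CharTwo.two_eq_zero : (2 : F) = 0)

/-- The transvection lifts. -/
theorem exists_tdata [Finite F] (h2 : ∀ x : F, x = 0 ∨ x = 1) {m : ℕ}
    (hperf : commutator (Spn F (m + 3)) = ⊤) {Γ : Type u} [Group Γ] (π : Γ →* Spn F (m + 4))
    (hπ : Function.Surjective π) (hc : π.ker ≤ center Γ) : ∃ D : TData F (m + 4) Γ, D.π = π := by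
  classical
  haveI : CharP F 2 := CharTwo.of_one_ne_zero_of_two_eq_zero one_ne_zero (two_eq_zero h2)
  obtain ⟨L0, hL0⟩ := hπ (sPl (sa 1))
  let L : Spn F (m + 4) → Γ := Function.surjInv hπ
  have hL : ∀ g, π (L g) = g := Function.surjInv_eq hπ
  have hcen : ∀ {x}, π x = 1 → ∀ y, x * y = y * x := fun hx y => (mem_center_iff.1 (hc hx) y).symm
  -- the stabiliser centralises the chosen lift
  have he : ∀ (g : Spn F (m + 3)) x, π x = emb g → x * L0 = L0 * x := fun g x hx =>
    commute_of_perfect' hperf hπ hc emb L0 (fun g => by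
      rw [hL0]
      exact ρW_injective <| Equiv.ext fun ⟨p, v⟩ => by simp only [map_mul, Equiv.Perm.mul_apply, ρ_emb, ρ_sPl]) hx
  have ha : ∀ (d : F) x, π x = sPl (sa d) → x * L0 = L0 * x := fun d x hx => by
    rcases h2 d with rfl | rfl
    · exact hcen (by rw [hx, sa_zero, map_one]) L0
    · have hz := hcen (x := L0⁻¹ * x) (by rw [map_mul, map_inv, hx, hL0, inv_mul_cancel]) L0
      calc x * L0 = L0 * (L0⁻¹ * x * L0) := by group
        _ = _ := by rw [hz]; group
  have hq : ∀ (u : Vec F (m + 3)) x, π x = qEl u → x * L0 = L0 * x := by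
    have hcq : ∀ u, π (L (qEl u)) * π L0 = π L0 * π (L (qEl u)) := fun u => by
      rw [hL, hL0]
      exact ρW_injective <| Equiv.ext fun ⟨p, v⟩ => by
        simp only [map_mul, Equiv.Perm.mul_apply, ρ_qEl, sPl_a]
        refine Prod.ext (Prod.ext ?_ rfl) rfl
        show _ + _ = _ + _; ring
    have hind : ∀ {a b : Γ}, π a = π b → π b * π L0 = π L0 * π b → ⁅a, L0⁆ = ⁅b, L0⁆ := fun {a b} e h => by
      have hz := hcen (x := b⁻¹ * a) (by rw [map_mul, map_inv, e, inv_mul_cancel]) L0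
      have h1 : ⁅b⁻¹ * a, L0⁆ = 1 := commutatorElement_eq_one_iff_mul_comm.2 hz
      rw [show a = b * (b⁻¹ * a) by group, comm_mul_left _ _ _ (by rw [h1]; exact one_mem _), h1, mul_one]
    intro u x hx
    refine commutatorElement_eq_one_iff_mul_comm.1 ?_
    rw [hind (b := L (qEl u)) (by rw [hx, hL]) (hcq u)]
    refine const_trick (fun u => ⁅L (qEl u), L0⁆) (fun g u => ?_) (fun u w => ?_) u
    · have e1 : L (emb g) * L0 * (L (emb g))⁻¹ = L0 := by rw [he g _ (hL _), mul_inv_cancel_right]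
      rw [hind (a := L (qEl (αSp g u))) (b := L (emb g) * L (qEl u) * (L (emb g))⁻¹)
        (by rw [map_mul, map_mul, map_inv, hL, hL, hL, emb_qEl])
        (by
          have := congrArg (fun y => π (L (emb g)) * y * (π (L (emb g)))⁻¹) (hcq u)
          rw [← map_inv, ← map_mul, ← map_mul] at this
          have e2 := congrArg π e1
          simp only [map_mul, map_inv] at this e2 ⊢
          calc π (L (emb g)) * π (L (qEl u)) * (π (L (emb g)))⁻¹ * π L0
              = π (L (emb g)) * π (L (qEl u)) * (π (L (emb g)))⁻¹ * (π (L (emb g)) * π L0 * (π (L (emb g)))⁻¹) := by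
                rw [e2]
            _ = π (L (emb g)) * (π (L (qEl u)) * π L0) * (π (L (emb g)))⁻¹ := by group
            _ = π (L (emb g)) * π L0 * (π (L (emb g)))⁻¹ * (π (L (emb g)) * π (L (qEl u)) * (π (L (emb g)))⁻¹) := by
                rw [show π (L (qEl u)) * π L0 = π L0 * π (L (qEl u)) from hcq u]; group
            _ = _ := by rw [e2])]
      conv_lhs => rw [← e1]
      rw [← conjugate_commutatorElement, conj_central (comm_mem_center hc (hcq u))]
    · rw [← comm_mul_left _ _ _ (comm_mem_center hc (hcq w))]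
      have hb : ∀ d, ⁅L (sPl (sa d)), L0⁆ = 1 := fun d =>
        commutatorElement_eq_one_iff_mul_comm.2 (ha d _ (hL _))
      rw [hind (a := L (qEl u) * L (qEl w)) (b := L (qEl (u + w)) * L (sPl (sa (bl u w))))
        (by rw [map_mul, map_mul, hL, hL, hL, hL, qEl_mul])
        (by
          have h3 := congrArg π (ha (bl u w) _ (hL (sPl (sa (bl u w)))))
          simp only [map_mul] at h3 ⊢
          rw [mul_assoc, h3, ← mul_assoc, hcq, mul_assoc]),
        comm_mul_left _ _ _ (by rw [hb]; exact one_mem _), hb, mul_one]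
  have hst : ∀ x, αSp (π x) (eB 0) = eB 0 → x * L0 = L0 * x := by
    intro x hx
    obtain ⟨u, d, g, e⟩ := exists_stab (A := π x) (by rwa [fix_iff, split_eB_zero] at hx)
    have hz := hcen (x := (L (qEl u) * L (sPl (sa d)) * L (emb g))⁻¹ * x) (by
      rw [map_mul, map_inv, map_mul, map_mul, hL, hL, hL, e, inv_mul_cancel]) L0
    have h1 : Commute (L (qEl u) * L (sPl (sa d)) * L (emb g)) L0 :=
      (Commute.mul_left (hq u _ (hL _)) (ha d _ (hL _))).mul_left (he g _ (hL _))
    have := h1.mul_left (show Commute _ L0 from hz)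
    rwa [mul_inv_cancel_left] at this
  -- the lifts
  have hex : ∀ v : Vec F (m + 4), v ≠ 0 → ∃ g, αSp g (eB 0) = v := fun v hv => trans_vec v hv
  let X0 : Vec F (m + 4) → Γ := fun v =>
    if h : v = 0 then 1 else L (hex v h).choose * L0 * (L (hex v h).choose)⁻¹
  have hX0 : ∀ y, X0 (αSp (π y) (eB 0)) = y * L0 * y⁻¹ := fun y => by
    have hne : αSp (π y) (eB 0) ≠ 0 := fun e => by
      have := congrFun ((LinearEquiv.map_eq_zero_iff _).1 e) (Sum.inl 0)
      simp [eB] at this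
    show (if h : αSp (π y) (eB 0) = 0 then 1 else _) = _
    rw [dif_neg hne]
    set g := (hex _ hne).choose
    have h1 := hst (y⁻¹ * L g) (by
      rw [map_mul, map_inv, hL, αSp_mul, (hex _ hne).choose_spec, αSp_inv])
    calc L g * L0 * (L g)⁻¹ = y * (y⁻¹ * L g * L0) * (L g)⁻¹ := by group
      _ = _ := by rw [h1]; group
  have hX0z : X0 0 = 1 := dif_pos rfl
  have hX0cov : ∀ y v, y * X0 v * y⁻¹ = X0 (αSp (π y) v) := fun y v => by
    by_cases hv : v = 0
    · rw [hv, map_zero, hX0z]; group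
    obtain ⟨g, rfl⟩ := hex v hv
    obtain ⟨x, rfl⟩ := hπ g
    rw [← αSp_mul, ← map_mul, hX0, hX0]; group
  have hX0π : ∀ v, π (X0 v) = tr v := fun v => by
    by_cases hv : v = 0
    · rw [hv, hX0z, map_one, tr_zero]
    obtain ⟨g, rfl⟩ := hex v hv
    obtain ⟨x, rfl⟩ := hπ g
    rw [hX0, map_mul, map_mul, map_inv, hL0, ← tr_eB_zero, tr_conj]
  -- normalisation
  let e : Fin 3 → Vec F (m + 4) := fun i => eB (i.castLE (by omega))
  have hiso : ∀ i j, bl (e i) (e j) = 0 := fun i j => by rw [bl_eB_left]; exact eB_inr _ _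
  let lhs : (Vec F (m + 4) → Γ) → Vec F (m + 4) → Vec F (m + 4) → Vec F (m + 4) → Γ :=
    fun X a b c => X a * X b * X c * X (a + b + c)
  let rhs : (Vec F (m + 4) → Γ) → Vec F (m + 4) → Vec F (m + 4) → Vec F (m + 4) → Γ :=
    fun X a b c => X (a + b) * X (a + c) * X (b + c)
  let z := (lhs X0 (e 0) (e 1) (e 2))⁻¹ * rhs X0 (e 0) (e 1) (e 2)
  have hzc : z ∈ center Γ := hc (by
    rw [MonoidHom.mem_ker]
    show π ((X0 _ * X0 _ * X0 _ * X0 _)⁻¹ * (X0 _ * X0 _ * X0 _)) = 1
    simp only [map_mul, map_inv, hX0π]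
    rw [lantern_below (hiso 0 1) (hiso 0 2) (hiso 1 2), inv_mul_cancel])
  let X : Vec F (m + 4) → Γ := fun v => if v = 0 then 1 else X0 v * z
  have hXz : X 0 = 1 := if_pos rfl
  have hXn : ∀ v, v ≠ 0 → X v = X0 v * z := fun v hv => if_neg hv
  have hXcov : ∀ y v, y * X v * y⁻¹ = X (αSp (π y) v) := fun y v => by
    by_cases hv : v = 0
    · rw [hv, map_zero, hXz]; group
    rw [hXn v hv, hXn _ ((LinearEquiv.map_ne_zero_iff _).2 hv), ← hX0cov,
      show y * (X0 v * z) * y⁻¹ = y * X0 v * y⁻¹ * (y * z * y⁻¹) by group, conj_central hzc]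
  have hzπ : π z = 1 := by
    show π ((X0 _ * X0 _ * X0 _ * X0 _)⁻¹ * (X0 _ * X0 _ * X0 _)) = 1
    simp only [map_mul, map_inv, hX0π]
    rw [lantern_below (hiso 0 1) (hiso 0 2) (hiso 1 2), inv_mul_cancel]
  have hXπ : ∀ v, π (X v) = tr v := fun v => by
    by_cases hv : v = 0
    · rw [hv, hXz, map_one, tr_zero]
    rw [hXn v hv, map_mul, hzπ, mul_one, hX0π]
  -- the lantern at the first three basis vectors
  have hne : ∀ v : Vec F (m + 4), (∃ i : Fin (m + 4), v (Sum.inl i) ≠ 0) → v ≠ 0 := by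
    rintro v ⟨i, hi⟩ rfl; exact hi rfl
  have hval : ∀ i j : Fin 3, e i (Sum.inl (j.castLE (by omega))) = if i = j then 1 else 0 := fun i j => by
    fin_cases i <;> fin_cases j <;> simp [e, eB, Fin.ext_iff]
  have hbase : lhs X (e 0) (e 1) (e 2) = rhs X (e 0) (e 1) (e 2) := by
    have hn : ∀ v, (∃ j : Fin 3, v (Sum.inl (j.castLE (by omega : 3 ≤ m + 4))) ≠ 0) → X v = X0 v * z :=
      fun v ⟨j, hj⟩ => hXn v (hne v ⟨_, hj⟩)
    show X _ * X _ * X _ * X _ = X _ * X _ * X _
    rw [hn (e 0) ⟨0, by simp [e, eB, Fin.ext_iff]⟩, hn (e 1) ⟨1, by simp [e, eB, Fin.ext_iff]⟩, hn (e 2) ⟨2, by simp [e, eB, Fin.ext_iff]⟩,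
      hn (e 0 + e 1 + e 2) ⟨0, by simp [e, eB, Fin.ext_iff]⟩, hn (e 0 + e 1) ⟨0, by simp [e, eB, Fin.ext_iff]⟩,
      hn (e 0 + e 2) ⟨0, by simp [e, eB, Fin.ext_iff]⟩, hn (e 1 + e 2) ⟨1, by simp [e, eB, Fin.ext_iff]⟩]
    have hz' : ∀ g, Commute z g := fun g => (mem_center_iff.1 hzc g).symm
    calc X0 (e 0) * z * (X0 (e 1) * z) * (X0 (e 2) * z) * (X0 (e 0 + e 1 + e 2) * z)
        = lhs X0 (e 0) (e 1) (e 2) * z * (z * z * z) := by
          show _ = X0 _ * X0 _ * X0 _ * X0 _ * z * (z * z * z)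
          rw [(hz' _).mul_mul_mul_comm, ((hz' _).mul_left (hz' _)).mul_mul_mul_comm,
            (((hz' _).mul_left (hz' _)).mul_left (hz' _)).mul_mul_mul_comm]
          simp only [mul_assoc]
      _ = rhs X0 (e 0) (e 1) (e 2) * (z * z * z) := by rw [mul_inv_cancel_left]
      _ = _ := by
          show X0 _ * X0 _ * X0 _ * (z * z * z) = _
          symm
          rw [(hz' _).mul_mul_mul_comm, ((hz' _).mul_left (hz' _)).mul_mul_mul_comm]
  have hlant : ∀ a b c, LinearIndependent F ![a, b, c] → bl a b = 0 → bl a c = 0 → bl b c = 0 →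
      X a * X b * X c * X (a + b + c) = X (a + b) * X (a + c) * X (b + c) := by
    intro a b c hli hab hac hbc
    obtain ⟨g, hg⟩ := exists_frame (n := m + 4) (by omega : 3 ≤ m + 4) ![a, b, c] hli (fun i j => by
      fin_cases i <;> fin_cases j <;> simp [bl_alt, hab, hac, hbc] <;> rw [bl_skew] <;> simp [hab, hac, hbc])
    obtain ⟨y, rfl⟩ := hπ g
    have h0 : αSp (π y) (e 0) = a := hg 0
    have h1 : αSp (π y) (e 1) = b := hg 1
    have hh2 : αSp (π y) (e 2) = c := hg 2
    rw [← h0, ← h1, ← hh2]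
    simp only [← map_add, ← hXcov]
    have := congrArg (fun t => y * t * y⁻¹) hbase
    calc y * X (e 0) * y⁻¹ * (y * X (e 1) * y⁻¹) * (y * X (e 2) * y⁻¹) * (y * X (e 0 + e 1 + e 2) * y⁻¹)
        = y * lhs X (e 0) (e 1) (e 2) * y⁻¹ := by show _ = y * (X _ * X _ * X _ * X _) * y⁻¹; group
      _ = _ := by rw [hbase]; show y * (X _ * X _ * X _) * y⁻¹ = _; group
  -- squares
  have hcomm : ∀ {u v}, bl u v = 0 → Commute (X u) (X v) := fun {u v} h =>
    mul_inv_eq_iff_eq_mul.1 ((hXcov _ v).trans (by rw [hXπ, α_tr, h, zero_smul, add_zero]))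
  have hsq : ∀ v, X v * X v = 1 := by
    set w := X (e 0) * X (e 0)
    have hw : ∀ v, v ≠ 0 → X v * X v = w := fun v hv => by
      obtain ⟨g, rfl⟩ := hex v hv
      obtain ⟨y, rfl⟩ := hπ g
      have hw' : w ∈ center Γ := hc (by rw [MonoidHom.mem_ker, map_mul, hXπ, tr_sq])
      have h0 : (eB 0 : Vec F (m + 4)) = e 0 := rfl
      rw [h0, ← hXcov, show y * X (e 0) * y⁻¹ * (y * X (e 0) * y⁻¹) = y * w * y⁻¹ by
        show _ = y * (X (e 0) * X (e 0)) * y⁻¹; group, conj_central hw']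
    have e10 : bl (e 1) (e 0) = 0 := hiso _ _
    have e20 : bl (e 2) (e 0) = 0 := hiso _ _
    have e21 : bl (e 2) (e 1) = 0 := hiso _ _
    have hA : ∀ {u v}, bl u v = 0 → X u * X v * (X u * X v) = X u * X u * (X v * X v) := fun {u v} h =>
      (hcomm h).symm.mul_mul_mul_comm _ _
    have sqL : lhs X (e 0) (e 1) (e 2) * lhs X (e 0) (e 1) (e 2) = w * w * w * w := by
      show X _ * X _ * X _ * X _ * (X _ * X _ * X _ * X _) = _
      rw [Commute.mul_mul_mul_comm (Commute.mul_right (Commute.mul_right (hcomm (by simp [hiso, bl_alt]))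
        (hcomm (by simp [hiso, bl_alt]))) (hcomm (by simp [hiso, bl_alt]))),
        Commute.mul_mul_mul_comm (Commute.mul_right (hcomm (hiso _ _)) (hcomm (hiso _ _))), hA (hiso _ _)]
      rw [hw (e 1) (hne _ ⟨(1 : Fin 3).castLE (by omega), by simp [e, eB, Fin.ext_iff]⟩), hw (e 2) (hne _ ⟨(2 : Fin 3).castLE (by omega), by simp [e, eB, Fin.ext_iff]⟩),
        hw (e 0 + e 1 + e 2) (hne _ ⟨(0 : Fin 3).castLE (by omega), by simp [e, eB, Fin.ext_iff]⟩)]
    have sqR : rhs X (e 0) (e 1) (e 2) * rhs X (e 0) (e 1) (e 2) = w * w * w := by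
      show X _ * X _ * X _ * (X _ * X _ * X _) = _
      rw [Commute.mul_mul_mul_comm (Commute.mul_right (hcomm (by simp [hiso, bl_alt]))
        (hcomm (by simp [hiso, bl_alt]))), hA (by simp [hiso, bl_alt])]
      rw [hw (e 0 + e 1) (hne _ ⟨(0 : Fin 3).castLE (by omega), by simp [e, eB, Fin.ext_iff]⟩),
        hw (e 0 + e 2) (hne _ ⟨(0 : Fin 3).castLE (by omega), by simp [e, eB, Fin.ext_iff]⟩),
        hw (e 1 + e 2) (hne _ ⟨(1 : Fin 3).castLE (by omega), by simp [e, eB, Fin.ext_iff]⟩)]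
    rw [hbase, sqR] at sqL
    have h1 : w = 1 := left_eq_mul.1 sqL
    intro v
    by_cases hv : v = 0
    · rw [hv, hXz, mul_one]
    · rw [hw v hv, h1]
  exact ⟨{ π := π, X := X, surj := hπ, πX := hXπ, X_zero := hXz, cov := hXcov, sq := hsq, lantern := hlant }, rfl⟩

/-- **Splitting over two elements**. -/
theorem splits_two [Finite F] (h2 : ∀ x : F, x = 0 ∨ x = 1) {m : ℕ}
    (hperf : commutator (Spn F (m + 3)) = ⊤) : Splits (Spn F (m + 4)) := by
  intro Γ _ _ π hπ hc
  obtain ⟨D, rfl⟩ := exists_tdata h2 hperf π hπ hc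
  obtain ⟨s, hs, -⟩ := D.exists_section h2
  exact ⟨s, hs⟩

end CfsgLib.SpMult
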