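import Cfsg.Agent.SpMult.Up
import Cfsg.Agent.SpMult.Base
import Cfsg.Agent.SpMult.TwoLift
import Mathlib.GroupTheory.SpecificGroups.Cyclic

/-!
The Schur multiplier of `PSp_{2m}(q)`.
-/

set_option autoImplicit false
set_option linter.style.haveILetI false

namespace CfsgLib.SpMult

open Subgroup CfsgLib.SpPres

universe u

variable {F : Type u} [Field F] [Fintype F]

theorem perfect_spn (m : ℕ) (hm : 2 ≤ m) (h : 3 ≤ m ∨ 3 ≤ Fintype.card F) : commutator (Spn F m) = ⊤ :=
  CfsgLib.Symp.commutator_eq_top (CfsgLib.Symp.cond_of_finite m (by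
    rw [Nat.card_eq_fintype_card]
    rcases h with h | h
    · exact Or.inl h
    · rcases eq_or_lt_of_le hm with rfl | hm
      · exact Or.inr (Or.inl ⟨rfl, h⟩)
      · exact Or.inl hm))

theorem cases_of_card_two (h : Fintype.card F = 2) (x : F) : x = 0 ∨ x = 1 := by
  classical
  have he : ({0, 1} : Finset F) = Finset.univ := Finset.eq_univ_of_card _ (by
    rw [Finset.card_pair zero_ne_one, h])
  have := Finset.mem_univ x
  rw [← he] at this
  simpa using this

theorem splits_spn {m : ℕ} (hm : 2 ≤ m) (h2 : m = 2 → 3 ≤ Fintype.card F)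
    (hexc : ¬ (m = 3 ∧ Fintype.card F = 2)) : Splits (Spn F m) := by
  have hq : 2 ≤ Fintype.card F := Fintype.one_lt_card
  rcases eq_or_lt_of_le hq with hq | hq
  · obtain ⟨k, rfl⟩ : ∃ k, m = k + 4 := ⟨m - 4, by
      have : m ≠ 2 := fun e => by have := h2 e; omega
      have : m ≠ 3 := fun e => hexc ⟨e, hq.symm⟩
      omega⟩
    exact splits_two (cases_of_card_two hq.symm) (perfect_spn _ (by omega) (Or.inl (by omega)))
  · obtain ⟨k, rfl⟩ : ∃ k, m = k + 2 := ⟨m - 2, by omega⟩
    clear hm h2 hexc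
    induction k with
    | zero => exact splits_four hq
    | succ k ih =>
      exact splits_succ (exists_ne_zero_one hq) (perfect_four hq) (splits_four hq)
        (perfect_spn _ (by omega) (Or.inr hq)) ih

theorem isCyclic_center (m : ℕ) [NeZero m] : IsCyclic (center (Spn F m)) := by
  have h := CfsgLib.Symp.card_center (F := F) (l := Fin m)
  rcases (Nat.dvd_prime Nat.prime_two).1 (Nat.gcd_dvd_left 2 (Nat.card F - 1)) with e | e <;> rw [e] at h
  · have := (Nat.card_eq_one_iff_unique.1 h).1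
    infer_instance
  · haveI : Fact (Nat.Prime 2) := ⟨Nat.prime_two⟩
    exact isCyclic_of_prime_card h

theorem hasCyclicSchurMultiplier_psp {m : ℕ} (hm : 2 ≤ m) (h2 : m = 2 → 3 ≤ Fintype.card F)
    (hexc : ¬ (m = 3 ∧ Fintype.card F = 2)) :
    Cfsg.HasCyclicSchurMultiplier (Cfsg.PSp m F) (Nat.gcd 2 (Fintype.card F - 1)) := by
  classical
  haveI : NeZero m := ⟨by omega⟩
  haveI : NeZero (Nat.gcd 2 (Fintype.card F - 1)) := ⟨(Nat.gcd_pos_of_pos_left _ two_pos).ne'⟩
  have hperf : commutator (Spn F m) = ⊤ := perfect_spn m hm (by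
    rcases eq_or_lt_of_le hm with e | e
    · exact Or.inr (h2 e.symm)
    · exact Or.inl e)
  let τ := QuotientGroup.mk' (center (Spn F m))
  have hτker : τ.ker = center (Spn F m) := QuotientGroup.ker_mk' _
  have hτ : Cfsg.IsStemExtension τ :=
    ⟨QuotientGroup.mk'_surjective _, hτker.le, by rw [hperf]; exact le_top⟩
  have hcard : Nat.card τ.ker = Nat.gcd 2 (Fintype.card F - 1) := by
    rw [hτker, CfsgLib.Symp.card_center, Nat.card_eq_fintype_card]
  have hcyc : IsCyclic τ.ker := by rw [hτker]; exact isCyclic_center m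
  refine CfsgLib.StemExt.hasCyclicSchurMultiplier τ hτ hcyc hcard fun Γ _ _ σ hσ => ?_
  obtain ⟨s, hs⟩ := splits_spn hm h2 hexc (Schur.pullback σ τ) (Schur.psnd σ τ)
    (Schur.psnd_surjective σ τ hσ.1) (SLMult.psnd_ker_le_center σ τ hσ.2.1)
  obtain ⟨φ, hφ⟩ := SLMult.ker_bound hσ hτ.1 s hs
  exact ⟨isCyclic_of_surjective φ hφ, hcard ▸ Subgroup.card_dvd_of_surjective φ hφ⟩

end CfsgLib.SpMult
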