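import Cfsg.Agent.Schur.Pullback
import Mathlib.GroupTheory.Abelianization.Defs

/-!
Central extensions of perfect groups; the property that all of them split.
-/

set_option autoImplicit false

namespace CfsgLib.SpMult

open Subgroup
open scoped commutatorElement IsMulCommutative

universe u v w

/-- All finite central extensions of `G` split. -/
def Splits (G : Type u) [Group G] : Prop :=
  ∀ (Γ : Type u) [Group Γ] [Finite Γ] (π : Γ →* G), Function.Surjective π → π.ker ≤ center Γ →
    ∃ s : G →* Γ, ∀ g, π (s g) = g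

variable {P : Type v} {Γ : Type u} {G : Type w} [Group P] [Group Γ] [Group G]

theorem conj_central {z : Γ} (h : z ∈ center Γ) (g : Γ) : g * z * g⁻¹ = z := by
  rw [mem_center_iff.1 h g, mul_inv_cancel_right]

theorem comm_mem_center {π : Γ →* G} (hc : π.ker ≤ center Γ) {a b : Γ} (h : π a * π b = π b * π a) :
    ⁅a, b⁆ ∈ center Γ := hc (by
  rw [MonoidHom.mem_ker, map_commutatorElement, commutatorElement_eq_one_iff_mul_comm]; exact h)

theorem comm_mul_left (a b y : Γ) (h : ⁅b, y⁆ ∈ center Γ) : ⁅a * b, y⁆ = ⁅a, y⁆ * ⁅b, y⁆ := by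
  calc ⁅a * b, y⁆ = a * ⁅b, y⁆ * a⁻¹ * ⁅a, y⁆ := by simp only [commutatorElement_def]; group
    _ = _ := by rw [conj_central h, mem_center_iff.1 h]

/-- An element commuting with a perfect group modulo the centre commutes with it. -/
theorem commute_of_perfect (hP : commutator P = ⊤) {π : Γ →* G} (hc : π.ker ≤ center Γ) (f : P →* Γ) (y : Γ)
    (h : ∀ p, π (f p) * π y = π y * π (f p)) (p : P) : f p * y = y * f p := by
  let ψ : P →* center Γ := MonoidHom.mk' (fun p => ⟨⁅f p, y⁆, comm_mem_center hc (h p)⟩) fun a b =>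
    Subtype.ext (by
      show ⁅f (a * b), y⁆ = ⁅f a, y⁆ * ⁅f b, y⁆
      rw [map_mul, comm_mul_left _ _ _ (comm_mem_center hc (h b))])
  have hp : p ∈ ψ.ker := Abelianization.commutator_subset_ker ψ (hP.symm ▸ Subgroup.mem_top p)
  exact commutatorElement_eq_one_iff_mul_comm.1 (congrArg Subtype.val (MonoidHom.mem_ker.1 hp))

/-- Lifts of a homomorphism from a perfect group are unique. -/
theorem hom_unique (hP : commutator P = ⊤) {π : Γ →* G} (hc : π.ker ≤ center Γ) {f g : P →* Γ}
    (h : ∀ p, π (f p) = π (g p)) : f = g := by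
  have hz : ∀ p, (g p)⁻¹ * f p ∈ center Γ := fun p => hc (by
    rw [MonoidHom.mem_ker, map_mul, map_inv, h, inv_mul_cancel])
  let ψ : P →* center Γ := MonoidHom.mk' (fun p => ⟨(g p)⁻¹ * f p, hz p⟩) fun a b => Subtype.ext (by
    show (g (a * b))⁻¹ * f (a * b) = (g a)⁻¹ * f a * ((g b)⁻¹ * f b)
    calc (g (a * b))⁻¹ * f (a * b) = (g b)⁻¹ * ((g a)⁻¹ * f a) * f b := by rw [map_mul, map_mul]; group
      _ = (g a)⁻¹ * f a * (g b)⁻¹ * f b := by rw [mem_center_iff.1 (hz a)]
      _ = _ := by group)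
  refine MonoidHom.ext fun p => (inv_mul_eq_one.1 ?_).symm
  have hp : p ∈ ψ.ker := Abelianization.commutator_subset_ker ψ (hP.symm ▸ Subgroup.mem_top p)
  exact congrArg Subtype.val (MonoidHom.mem_ker.1 hp)

/-- Splitting gives lifts along any homomorphism. -/
theorem Splits.lift {G₀ : Type u} {G' : Type u} [Group G₀] [Group G'] [Finite G₀] [Finite Γ] (hs : Splits G₀)
    {π : Γ →* G'} (hπ : Function.Surjective π) (hc : π.ker ≤ center Γ) (j : G₀ →* G') :
    ∃ θ : G₀ →* Γ, ∀ x, π (θ x) = j x := by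
  obtain ⟨s, hsec⟩ := hs (Schur.pullback j π) (Schur.pfst j π) (Schur.pfst_surjective j π hπ)
    (Schur.pfst_ker_le_center j π hc)
  refine ⟨(Schur.psnd j π).comp s, fun x => ?_⟩
  show π (s x).1.2 = j x
  rw [← Schur.mem_pullback.1 (s x).2, show (s x).1.1 = x from hsec x]

end CfsgLib.SpMult
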