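import Cfsg.Agent.SpPres.Amalgam

/-!
Symplectic groups on chosen planes, block permutations, frames, transvections.
-/

set_option autoImplicit false

namespace CfsgLib.SpMult

open Matrix CfsgLib.SpPres

universe uF

variable {F : Type uF} [Field F] {n k l : ℕ}

/-- The planes chosen by an injective map. -/
def pl (ι : Fin k ↪ Fin n) : Fin k ⊕ Fin k → Fin n ⊕ Fin n := Sum.map ι ι

theorem pl_injective (ι : Fin k ↪ Fin n) : Function.Injective (pl ι) :=
  ι.injective.sumMap ι.injective

/-- Restriction to the planes. -/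
def res (ι : Fin k ↪ Fin n) : Vec F n →ₗ[F] Vec F k := LinearMap.funLeft F F (pl ι)

/-- Extension by zero. -/
noncomputable def ext (ι : Fin k ↪ Fin n) : Vec F k →ₗ[F] Vec F n :=
  Function.ExtendByZero.linearMap F (pl ι)

theorem res_ext (ι : Fin k ↪ Fin n) (v : Vec F k) : res ι (ext ι v) = v :=
  funext fun i => (pl_injective ι).extend_apply v 0 i

theorem ext_mem (ι : Fin k ↪ Fin n) (v : Vec F k) (i : Fin k ⊕ Fin k) : ext ι v (pl ι i) = v i :=
  (pl_injective ι).extend_apply v 0 i

theorem ext_of_not_mem (ι : Fin k ↪ Fin n) (v : Vec F k) {x : Fin n ⊕ Fin n}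
    (h : ∀ i, pl ι i ≠ x) : ext ι v x = 0 :=
  Function.extend_apply' _ _ _ (by rintro ⟨i, rfl⟩; exact h i rfl)

theorem bl_ext (ι : Fin k ↪ Fin n) (a : Vec F k) (w : Vec F n) : bl (ext ι a) w = bl a (res ι w) := by
  rw [bl_apply, bl_apply,
    ← Finset.sum_subset (Finset.subset_univ (Finset.univ.map ι)) (fun x _ hx => by
      have h : ∀ i, ι i ≠ x := fun i e => hx (by simp [← e])
      rw [ext_of_not_mem ι a (x := Sum.inl x) (by rintro (i | i) e <;> simp_all [pl]),
        ext_of_not_mem ι a (x := Sum.inr x) (by rintro (i | i) e <;> simp_all [pl])]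
      ring),
    Finset.sum_map]
  refine Finset.sum_congr rfl fun i _ => ?_
  have e1 : ext ι a (Sum.inl (ι i)) = a (Sum.inl i) := (pl_injective ι).extend_apply a 0 (Sum.inl i)
  have e2 : ext ι a (Sum.inr (ι i)) = a (Sum.inr i) := (pl_injective ι).extend_apply a 0 (Sum.inr i)
  rw [e1, e2]; rfl

theorem bl_skew (v w : Vec F n) : bl w v = -bl v w := by
  have h := bl_alt (v + w)
  simp only [map_add, LinearMap.add_apply, bl_alt] at h
  linear_combination h

theorem bl_ext_right (ι : Fin k ↪ Fin n) (a : Vec F k) (w : Vec F n) : bl w (ext ι a) = bl (res ι w) a := by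
  rw [bl_skew, bl_ext, ← bl_skew]

/-- The map attached to `g`. -/
noncomputable def blkLin (ι : Fin k ↪ Fin n) (g : Spn F k) : Vec F n →ₗ[F] Vec F n :=
  LinearMap.id + ext ι ∘ₗ ((αSp g).toLinearMap - LinearMap.id) ∘ₗ res ι

theorem blkLin_apply (ι : Fin k ↪ Fin n) (g : Spn F k) (v : Vec F n) :
    blkLin ι g v = v + ext ι (αSp g (res ι v) - res ι v) := rfl

theorem blkLin_bl (ι : Fin k ↪ Fin n) (g : Spn F k) (v w : Vec F n) :
    bl (blkLin ι g v) (blkLin ι g w) = bl v w := by
  rw [blkLin_apply, blkLin_apply]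
  simp only [map_add, LinearMap.add_apply, bl_ext, bl_ext_right, res_ext]
  simp only [map_sub, LinearMap.sub_apply, αSp_bl]
  ring

/-- The symplectic group on chosen planes. -/
noncomputable def blk (ι : Fin k ↪ Fin n) : Spn F k →* Spn F n where
  toFun g := ofLin (blkLin ι g) (blkLin_bl ι g)
  map_one' := αSp_injective <| LinearEquiv.ext fun v => by
    rw [αSp_ofLin, blkLin_apply]
    simp
  map_mul' g h := αSp_injective <| LinearEquiv.ext fun v => by
    rw [αSp_mul, αSp_ofLin, αSp_ofLin, αSp_ofLin, blkLin_apply, blkLin_apply, blkLin_apply, αSp_mul,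
      map_add (res ι), res_ext, add_sub_cancel, add_assoc, ← map_add]
    congr 2; abel

theorem α_blk (ι : Fin k ↪ Fin n) (g : Spn F k) (v : Vec F n) :
    αSp (blk ι g) v = v + ext ι (αSp g (res ι v) - res ι v) := αSp_ofLin _ (blkLin_bl ι g) v

theorem blk_inl (ι : Fin k ↪ Fin n) (g : Spn F k) (v : Vec F n) (i : Fin k) :
    αSp (blk ι g) v (Sum.inl (ι i)) = αSp g (res ι v) (Sum.inl i) := by
  rw [α_blk, Pi.add_apply]
  rw [show (Sum.inl (ι i) : Fin n ⊕ Fin n) = pl ι (Sum.inl i) from rfl, ext_mem]
  show v (Sum.inl (ι i)) + (αSp g (res ι v) (Sum.inl i) - v (Sum.inl (ι i))) = _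
  ring

theorem blk_mem (ι : Fin k ↪ Fin n) (g : Spn F k) (v : Vec F n) (i : Fin k ⊕ Fin k) :
    αSp (blk ι g) v (pl ι i) = αSp g (res ι v) i := by
  rw [α_blk, Pi.add_apply]
  rw [ext_mem]
  show v (pl ι i) + (αSp g (res ι v) i - v (pl ι i)) = _
  ring

theorem blk_not_mem (ι : Fin k ↪ Fin n) (g : Spn F k) (v : Vec F n) {x : Fin n ⊕ Fin n}
    (h : ∀ i, pl ι i ≠ x) : αSp (blk ι g) v x = v x := by
  rw [α_blk, Pi.add_apply, ext_of_not_mem _ _ h, add_zero]

theorem res_blk (ι : Fin k ↪ Fin n) (g : Spn F k) (v : Vec F n) :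
    res ι (αSp (blk ι g) v) = αSp g (res ι v) := funext fun i => blk_mem ι g v i

theorem blk_comp (ι : Fin k ↪ Fin n) (κ : Fin l ↪ Fin k) (g : Spn F l) :
    blk ι (blk κ g) = blk (κ.trans ι) g := by
  refine αSp_injective <| LinearEquiv.ext fun v => funext fun x => ?_
  by_cases h : ∃ i, pl ι i = x
  · obtain ⟨i, rfl⟩ := h
    rw [blk_mem]
    by_cases h' : ∃ j, pl κ j = i
    · obtain ⟨j, rfl⟩ := h'
      have e : pl ι (pl κ j) = pl (κ.trans ι) j := by rcases j with j | j <;> rfl
      rw [blk_mem, e, blk_mem]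
      exact congrFun (congrArg (αSp g) (funext fun a => by rcases a with a | a <;> rfl)) j
    · push Not at h'
      rw [blk_not_mem _ _ _ h', blk_not_mem]
      · rfl
      · intro j e
        refine h' j (pl_injective ι ?_)
        rw [← e]; rcases j with j | j <;> rfl
  · push Not at h
    rw [blk_not_mem _ _ _ h, blk_not_mem]
    intro j e
    refine h (pl κ j) ?_
    rw [← e]; rcases j with j | j <;> rfl

theorem blk_commute {ι : Fin k ↪ Fin n} {κ : Fin l ↪ Fin n} (h : ∀ i j, ι i ≠ κ j) (g : Spn F k)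
    (g' : Spn F l) : blk ι g * blk κ g' = blk κ g' * blk ι g := by
  have hd : ∀ a b, pl ι a ≠ pl κ b := by
    rintro (a | a) (b | b) <;> simp [pl, h]
  have h1 : ∀ v, res ι (αSp (blk κ g') v) = res ι v := fun v =>
    funext fun i => blk_not_mem κ g' v (fun j e => hd i j e.symm)
  have h2 : ∀ v, res κ (αSp (blk ι g) v) = res κ v := fun v =>
    funext fun i => blk_not_mem ι g v (fun j e => hd j i e)
  refine αSp_injective <| LinearEquiv.ext fun v => ?_
  rw [αSp_mul, αSp_mul, α_blk ι g, h1, α_blk κ g' v, α_blk κ g' (αSp (blk ι g) v), h2, α_blk ι g v]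
  abel

/-- The map permuting the planes. -/
noncomputable def permPl (p : Equiv.Perm (Fin n)) : Spn F n :=
  ofLin (LinearMap.funLeft F F (Sum.map p.symm p.symm)) fun v w => by
    rw [bl_apply, bl_apply]
    exact Fintype.sum_equiv p.symm _ _ fun i => rfl

theorem α_permPl (p : Equiv.Perm (Fin n)) (v : Vec F n) (x : Fin n ⊕ Fin n) :
    αSp (permPl p) v x = v (Sum.map p.symm p.symm x) := by
  rw [permPl, αSp_ofLin]; rfl

theorem permPl_conj (p : Equiv.Perm (Fin n)) (ι : Fin k ↪ Fin n) (g : Spn F k) :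
    permPl p * blk ι g = blk (ι.trans p.toEmbedding) g * permPl p := by
  refine αSp_injective <| LinearEquiv.ext fun v => funext fun x => ?_
  rw [αSp_mul, αSp_mul, α_permPl]
  by_cases h : ∃ i, pl (ι.trans p.toEmbedding) i = x
  · obtain ⟨i, rfl⟩ := h
    have e : Sum.map p.symm p.symm (pl (ι.trans p.toEmbedding) i) = pl ι i := by
      rcases i with i | i <;> simp [pl]
    rw [e, blk_mem, blk_mem]
    refine congrFun (congrArg (αSp g) (funext fun j => ?_)) i
    show v (pl ι j) = αSp (permPl p) v (pl (ι.trans p.toEmbedding) j)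
    rw [α_permPl]
    rcases j with j | j <;> simp [pl]
  · push Not at h
    rw [blk_not_mem _ _ _ h, α_permPl, blk_not_mem]
    intro i e
    apply h i
    rcases i with i | i <;> rcases x with x | x <;> simp [pl] at e ⊢ <;> rw [e] <;> simp

theorem permPl_blk (p : Equiv.Perm (Fin k)) (ι : Fin k ↪ Fin n) (P : Equiv.Perm (Fin n))
    (h1 : ∀ i, P.symm (ι i) = ι (p.symm i)) (h2 : ∀ x, (∀ i, ι i ≠ x) → P.symm x = x) :
    (permPl P : Spn F n) = blk ι (permPl p) := by
  refine αSp_injective <| LinearEquiv.ext fun v => funext fun x => ?_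
  rw [α_permPl]
  by_cases h : ∃ i, pl ι i = x
  · obtain ⟨i, rfl⟩ := h
    rw [blk_mem, α_permPl]
    rcases i with i | i <;> simp [pl, res, h1, LinearMap.funLeft_apply]
  · push Not at h
    rw [blk_not_mem _ _ _ h]
    rcases x with x | x
    · rw [Sum.map_inl, h2 x fun i e => h (Sum.inl i) (by simp [pl, e])]
    · rw [Sum.map_inr, h2 x fun i e => h (Sum.inr i) (by simp [pl, e])]

/-- The first plane. -/
def e0 : Fin 1 ↪ Fin (n + 1) := ⟨fun _ => 0, fun a b _ => Subsingleton.elim a b⟩

/-- All but the first plane. -/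
def es : Fin n ↪ Fin (n + 1) := ⟨Fin.succ, Fin.succ_injective n⟩

theorem emb_eq_blk (g : Spn F n) : emb g = blk es g := by
  refine αSp_injective <| LinearEquiv.ext fun v => split.injective ?_
  have := ρ_emb g (split v).1 (split v).2
  rw [ρW_apply, Prod.mk.eta, LinearEquiv.symm_apply_apply] at this
  rw [this, show (split v).2 = res es v from funext fun i => by rcases i with i | i <;> rfl]
  refine Prod.ext (Prod.ext ?_ ?_) (funext fun i => ?_)
  · exact (blk_not_mem es g v (x := Sum.inl 0) (by rintro (i | i) <;> simp [pl, es])).symm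
  · exact (blk_not_mem es g v (x := Sum.inr 0) (by rintro (i | i) <;> simp [pl, es])).symm
  · rcases i with i | i
    · exact (blk_mem es g v (Sum.inl i)).symm
    · exact (blk_mem es g v (Sum.inr i)).symm

/-- The two first planes. -/
def e01 : Fin 2 ↪ Fin (n + 2) :=
  ⟨fun i => i.castLE (by omega), fun a b h => Fin.ext (by simpa using congrArg Fin.val h)⟩

theorem not_mem_e01 {x : Fin (n + 2) ⊕ Fin (n + 2)} (hl : ∀ i : Fin (n + 2), x = Sum.inl i → 2 ≤ (i : ℕ))
    (hr : ∀ i : Fin (n + 2), x = Sum.inr i → 2 ≤ (i : ℕ)) : ∀ j, pl e01 j ≠ x := by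
  rintro (j | j) e
  · have := hl _ e.symm
    have h : ((e01 (n := n) j : Fin (n + 2)) : ℕ) = j := rfl
    omega
  · have := hr _ e.symm
    have h : ((e01 (n := n) j : Fin (n + 2)) : ℕ) = j := rfl
    omega

theorem sPl_eq_blk (s : SpecialLinearGroup (Fin 2) F) :
    (sPl s : Spn F (n + 2)) = blk e01 (sPl s : Spn F 2) := by
  refine αSp_injective <| LinearEquiv.ext fun v => split.injective ?_
  rw [α_sPl]
  refine Prod.ext (Prod.ext ?_ ?_) (funext fun i => ?_)
  · show _ = αSp (blk e01 (sPl s : Spn F 2)) v (pl e01 (Sum.inl 0))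
    rw [blk_mem]
    exact (congrArg (fun y => y.1.1) (α_sPl s (res e01 v))).symm
  · show _ = αSp (blk e01 (sPl s : Spn F 2)) v (pl e01 (Sum.inr 0))
    rw [blk_mem]
    exact (congrArg (fun y => y.1.2) (α_sPl s (res e01 v))).symm
  · rcases i with i | i <;> induction i using Fin.cases with
    | zero =>
      first
        | (show _ = αSp (blk e01 (sPl s : Spn F 2)) v (pl e01 (Sum.inl 1))
           rw [blk_mem]
           exact (congrArg (fun y => y.2 (Sum.inl 0)) (α_sPl s (res e01 v))).symm)
        | (show _ = αSp (blk e01 (sPl s : Spn F 2)) v (pl e01 (Sum.inr 1))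
           rw [blk_mem]
           exact (congrArg (fun y => y.2 (Sum.inr 0)) (α_sPl s (res e01 v))).symm)
    | succ i =>
      refine (blk_not_mem e01 _ v ?_).symm
      exact not_mem_e01 (by simp) (by simp)

theorem split_qEl (u : Vec F n) (v : Vec F (n + 1)) :
    split (αSp (qEl u) v) = (((split v).1.1 + bl u (split v).2, (split v).1.2),
      (split v).2 + (split v).1.2 • u) := by
  have := ρ_qEl u (split v).1 (split v).2
  rwa [ρW_apply, Prod.mk.eta, LinearEquiv.symm_apply_apply] at this

theorem qEl_eq_blk (t : F) :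
    (qEl (t • eB 0) : Spn F (n + 2)) = blk e01 (qEl (t • eB 0) : Spn F 2) := by
  refine αSp_injective <| LinearEquiv.ext fun v => split.injective ?_
  rw [split_qEl]
  refine Prod.ext (Prod.ext ?_ ?_) (funext fun i => ?_)
  · show _ = αSp (blk e01 (qEl (t • eB 0) : Spn F 2)) v (pl e01 (Sum.inl 0))
    rw [blk_mem]
    refine Eq.trans ?_ (congrArg (fun y => y.1.1) (split_qEl (t • eB 0) (res e01 v))).symm
    simp only [map_smul, LinearMap.smul_apply, bl_eB_left]
    rfl
  · show _ = αSp (blk e01 (qEl (t • eB 0) : Spn F 2)) v (pl e01 (Sum.inr 0))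
    rw [blk_mem]
    exact (congrArg (fun y => y.1.2) (split_qEl (t • eB 0) (res e01 v))).symm
  · rcases i with i | i <;> induction i using Fin.cases with
    | zero =>
      first
        | (show _ = αSp (blk e01 (qEl (t • eB 0) : Spn F 2)) v (pl e01 (Sum.inl 1))
           rw [blk_mem]
           refine Eq.trans ?_ (congrArg (fun y => y.2 (Sum.inl 0)) (split_qEl (t • eB 0) (res e01 v))).symm
           simp [eB, split, res, e01, pl]; rfl)
        | (show _ = αSp (blk e01 (qEl (t • eB 0) : Spn F 2)) v (pl e01 (Sum.inr 1))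
           rw [blk_mem]
           refine Eq.trans ?_ (congrArg (fun y => y.2 (Sum.inr 0)) (split_qEl (t • eB 0) (res e01 v))).symm
           simp [eB, split, res, e01, pl]; rfl)
    | succ i =>
      first
        | (refine Eq.trans ?_ (blk_not_mem e01 _ v (x := Sum.inl i.succ.succ)
              (by exact not_mem_e01 (by simp) (by simp))).symm
           simp [eB, split])
        | (refine Eq.trans ?_ (blk_not_mem e01 _ v (x := Sum.inr i.succ.succ)
              (by exact not_mem_e01 (by simp) (by simp))).symm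
           simp [eB, split])

/-- The transvection along a vector. -/
def tr (v : Vec F n) : Spn F n :=
  ofLin (LinearMap.id + (bl v).smulRight v) fun x y => by
    simp only [LinearMap.add_apply, LinearMap.id_apply, LinearMap.smulRight_apply, map_add, map_smul,
      LinearMap.smul_apply, smul_eq_mul, bl_alt]
    rw [bl_skew v x]; ring

theorem α_tr (v x : Vec F n) : αSp (tr v) x = x + bl v x • v := αSp_ofLin _ _ x

theorem tr_conj (g : Spn F n) (v : Vec F n) : g * tr v * g⁻¹ = tr (αSp g v) := by
  rw [mul_inv_eq_iff_eq_mul]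
  refine αSp_injective <| LinearEquiv.ext fun x => ?_
  rw [αSp_mul, αSp_mul, α_tr, α_tr, αSp_bl, map_add, map_smul]

theorem tr_zero : tr (0 : Vec F n) = 1 := αSp_injective <| LinearEquiv.ext fun x => by
  rw [α_tr, map_one, smul_zero, add_zero]; rfl

theorem tr_eB_zero : (tr (eB 0) : Spn F (n + 1)) = sPl (sa 1) := by
  refine αSp_injective <| LinearEquiv.ext fun x => ?_
  rw [α_tr]
  cases n with
  | zero =>
    apply split.injective
    rw [α_sPl, map_add, map_smul, split_eB_zero, bl_eB_left]
    refine Prod.ext (Prod.ext ?_ ?_) ?_ <;> simp [act2, sa, mk2_apply, split]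
  | succ m => rw [α_sPl_a, one_mul]

/-- The symplectic group is transitive on totally isotropic frames. -/
theorem exists_frame : ∀ {n k : ℕ} (hk : k ≤ n) (v : Fin k → Vec F n), LinearIndependent F v →
    (∀ i j, bl (v i) (v j) = 0) → ∃ g : Spn F n, ∀ i, αSp g (eB (i.castLE hk)) = v i
  | _, 0, _, v, _, _ => ⟨1, fun i => i.elim0⟩
  | 0, k + 1, hk, _, _, _ => absurd hk (by omega)
  | n + 1, k + 1, hk, v, hli, hiso => by
    obtain ⟨g₀, h0⟩ := trans_vec (v 0) (hli.ne_zero 0)
    set w : Fin (k + 1) → Vec F (n + 1) := fun i => αSp g₀⁻¹ (v i) with hw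
    have hgw : ∀ i, αSp g₀ (w i) = v i := fun i => by
      rw [hw]; show αSp g₀ (αSp g₀⁻¹ (v i)) = v i
      rw [← αSp_mul, mul_inv_cancel, map_one]; rfl
    have hw0 : w 0 = eB 0 := by rw [hw]; show αSp g₀⁻¹ (v 0) = _; rw [← h0, αSp_inv]
    have hc : ∀ i, (split (w i)).1.2 = 0 := fun i => by
      have := hiso 0 i
      rw [← hgw 0, ← hgw i, αSp_bl, hw0, bl_eB_left] at this
      exact this
    have hwli : LinearIndependent F w := by
      have := hli.map' (αSp g₀⁻¹).toLinearMap (αSp g₀⁻¹).ker
      exact this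
    set u : Fin k → Vec F n := fun i => (split (w i.succ)).2 with hu
    have hsplit : ∀ i : Fin k, split (w i.succ) = (((split (w i.succ)).1.1, 0), u i) := fun i =>
      Prod.ext (Prod.ext rfl (hc _)) rfl
    have huli : LinearIndependent F u := by
      rw [Fintype.linearIndependent_iff]
      intro c hc0
      rw [Fintype.linearIndependent_iff] at hwli
      have := hwli (Fin.cons (-∑ i, c i * (split (w i.succ)).1.1) c) (by
        apply split.injective
        rw [Fin.sum_univ_succ, map_add, map_zero, map_smul, map_sum, hw0, split_eB_zero]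
        refine Prod.ext (Prod.ext ?_ ?_) ?_
        · simp [Prod.fst_sum]
        · simp [Prod.fst_sum, Prod.snd_sum, hc]
        · simp only [Fin.cons_succ, map_smul, Prod.snd_add, Prod.snd_sum, Prod.smul_snd, smul_zero, zero_add,
            Prod.snd_zero]
          exact hc0)
      exact fun i => by simpa using this i.succ
    have huiso : ∀ i j, bl (u i) (u j) = 0 := fun i j => by
      have := hiso i.succ j.succ
      rw [← hgw, ← hgw, αSp_bl, bl_split, blW, hc, hc, mul_zero, zero_mul, sub_zero, zero_add] at this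
      exact this
    obtain ⟨g₁, h1⟩ := exists_frame (Nat.le_of_succ_le_succ hk) u huli huiso
    -- kill the first coordinates
    set z : Vec F n := ∑ i : Fin k, (-(split (w i.succ)).1.1) • fB (i.castLE (Nat.le_of_succ_le_succ hk)) with hz
    refine ⟨g₀ * (emb g₁ * qEl z), fun i => ?_⟩
    rw [αSp_mul, ← hgw i]
    congr 1
    apply split.injective
    have key : ∀ x, split (αSp (emb g₁ * qEl z) x) = ρW (emb g₁ * qEl z) (split x) := fun x => by
      rw [ρW_apply, LinearEquiv.symm_apply_apply]
    rw [key, map_mul, Equiv.Perm.mul_apply]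
    induction i using Fin.cases with
    | zero =>
      show ρW (emb g₁) (ρW (qEl z) (split (eB 0))) = _
      rw [hw0, split_eB_zero, ρ_qEl, ρ_emb]; simp
    | succ i =>
      show ρW (emb g₁) (ρW (qEl z) (split (eB (i.castLE (Nat.le_of_succ_le_succ hk)).succ))) = _
      rw [split_eB_succ, ρ_qEl, ρ_emb, hsplit i]
      refine Prod.ext (Prod.ext ?_ rfl) ?_
      · show 0 + bl z (eB _) = _
        rw [zero_add, bl_eB_right, hz, Finset.sum_apply, Finset.sum_eq_single i]
        · simp [fB]
        · intro j _ hj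
          simp [fB, Pi.single_apply, Fin.ext_iff]
          exact fun e => absurd (Fin.ext e) (Ne.symm hj)
        · simp
      · rw [zero_smul, add_zero, h1]

end CfsgLib.SpMult
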