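import Cfsg.Agent.SpMult.Blk

/-!
From lifts with the rank-two relations to a section.
-/

set_option autoImplicit false

namespace CfsgLib.SpMult

open Matrix Subgroup CfsgLib.SpPres

universe uF uΓ

variable {F : Type uF} [Field F] {m : ℕ}

theorem qEl_mul {n : ℕ} (u w : Vec F n) :
    (qEl u * qEl w : Spn F (n + 1)) = qEl (u + w) * sPl (sa (bl u w)) :=
  ρW_injective <| Equiv.ext fun ⟨p, v⟩ => by
    simp only [map_mul, Equiv.Perm.mul_apply, ρ_qEl, sPl_a, map_add, LinearMap.add_apply, map_smul, smul_eq_mul]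
    refine Prod.ext (Prod.ext ?_ rfl) ?_
    · show _ + _ = _ + _; ring
    · show _ + _ = _ + _; module

/-- An invariant homomorphism on the translations is trivial. -/
theorem const_trick {k : ℕ} {M : Type*} [Group M] (χ : Vec F (k + 1) → M)
    (hinv : ∀ g u, χ (αSp g u) = χ u) (hmul : ∀ u w, χ u * χ w = χ (u + w)) (u : Vec F (k + 1)) : χ u = 1 := by
  have h0 : χ 0 = 1 := by
    have := hmul 0 0
    rwa [add_zero, mul_eq_left] at this
  by_cases hu : u = 0
  · rw [hu, h0]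
  have hc : ∀ v : Vec F (k + 1), v ≠ 0 → χ v = χ (eB 0) := fun v hv => by
    obtain ⟨g, rfl⟩ := trans_vec v hv
    rw [hinv]
  have hne : (eB 0 : Vec F (k + 1)) ≠ 0 := fun e => by
    have := congrFun e (Sum.inl 0); simp [eB] at this
  have hf : (fB 0 : Vec F (k + 1)) ≠ 0 := fun e => by
    have := congrFun e (Sum.inr 0); simp [fB] at this
  have hs : (eB 0 + fB 0 : Vec F (k + 1)) ≠ 0 := fun e => by
    have := congrFun e (Sum.inl 0); simp [eB, fB] at this
  have := hmul (eB 0) (fB 0)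
  rw [hc _ hf, hc _ hs, mul_eq_left] at this
  rw [hc u hu, this]

variable {Γ : Type uΓ} [Group Γ]

/-- Lifts with the rank-two relations give a section. -/
theorem section_of (π : Γ →* Spn F (m + 2)) (φ : Spn F (m + 1) →* Γ)
    (σ : SpecialLinearGroup (Fin 2) F →* Γ) (R : F → Γ)
    (hφ : ∀ g, π (φ g) = emb g) (hσ : ∀ s, π (σ s) = sPl s) (hR : ∀ t, π (R t) = qEl (t • eB 0))
    (hcomm : ∀ g s, φ g * σ s = σ s * φ g)
    (R_add : ∀ t u, R (t + u) = R t * R u)
    (R_scale : ∀ (g : Spn F (m + 1)) (c : F), αSp g (eB 0) = c • eB 0 → ∀ t, φ g * R t * (φ g)⁻¹ = R (c * t))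
    (R_pair : ∀ c : F, c ≠ 0 → ∃ g g', αSp g (eB 0) = c • fB 0 ∧ αSp g' (eB 0) = eB 0 + c • fB 0 ∧
      R 1 * (φ g * R 1 * (φ g)⁻¹) = φ g' * R 1 * (φ g')⁻¹ * σ (sa c))
    (perp : (∃ c : F, c ≠ 0 ∧ c ≠ -1) ∨ ∀ w : Vec F (m + 1), (∀ c : F, w ≠ c • eB 0) → bl (eB 0) w = 0 →
      ∀ g g', αSp g (eB 0) = w → αSp g' (eB 0) = eB 0 + w →
        R 1 * (φ g * R 1 * (φ g)⁻¹) = φ g' * R 1 * (φ g')⁻¹)
    (R_up : ∀ d t, σ (sa d) * R t = R t * σ (sa d))
    (R_tor : ∀ (l : Fˣ) (t : F), σ (sh l) * R t * (σ (sh l))⁻¹ = R (l * t))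
    (R_low : ∀ t : F, ∃ τ : Spn F (m + 1), (∀ x, αSp τ x = x + (t * bl (eB 0) x) • eB 0) ∧
      σ (sb t) * R 1 * (σ (sb t))⁻¹ = σ sw * R t * (σ sw)⁻¹ * φ τ * R 1) :
    ∃ s : Spn F (m + 2) →* Γ, (∀ g, π (s g) = g) ∧ ∀ x, s (sPl x) = σ x := by
  let E : Subgroup Γ := closure (Set.range φ ∪ Set.range σ ∪ Set.range R)
  let φE := φ.codRestrict E fun g => subset_closure (Or.inl (Or.inl ⟨g, rfl⟩))
  let σE := σ.codRestrict E fun s => subset_closure (Or.inl (Or.inr ⟨s, rfl⟩))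
  let RE : F → E := fun t => ⟨R t, subset_closure (Or.inr ⟨t, rfl⟩)⟩
  let S : Step F (Vec F (m + 1)) (Spn F (m + 1)) E :=
    { ω := bl
      alt := bl_alt
      α := αSp
      α_inj := αSp_injective
      α_ω := αSp_bl
      e := eB 0
      f := fB 0
      ef := by simp [bl_eB_left, fB]
      trans := trans_vec
      transPair := trans_pair
      ρ := ρW.comp (π.comp E.subtype)
      φ := φE
      σ := σE
      comm := fun g s => Subtype.ext (hcomm g s)
      R := RE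
      ρφ := fun g p v => by show ρW (π (φ g)) (p, v) = _; rw [hφ, ρ_emb]
      ρσ := fun s p v => by show ρW (π (σ s)) (p, v) = _; rw [hσ, ρ_sPl]
      ρR := fun t p v => by
        show ρW (π (R t)) (p, v) = _
        rw [hR, ρ_qEl, map_smul, LinearMap.smul_apply, smul_eq_mul, smul_smul]
      gen := by
        refine eq_top_iff.2 fun x _ => ?_
        have : x.1 ∈ (closure (Set.range φE ∪ Set.range σE ∪ Set.range RE)).map E.subtype := by
          rw [MonoidHom.map_closure]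
          refine closure_mono ?_ x.2
          rintro y ((⟨g, rfl⟩ | ⟨s, rfl⟩) | ⟨t, rfl⟩)
          · exact ⟨φE g, Or.inl (Or.inl ⟨g, rfl⟩), rfl⟩
          · exact ⟨σE s, Or.inl (Or.inr ⟨s, rfl⟩), rfl⟩
          · exact ⟨RE t, Or.inr ⟨t, rfl⟩, rfl⟩
        obtain ⟨z, hz, e⟩ := this
        rwa [← Subtype.ext e]
      R_add := fun t u => Subtype.ext (R_add t u)
      R_scale := fun g c h t => Subtype.ext (R_scale g c h t)
      R_pair := fun c hc => by
        obtain ⟨g, g', h1, h2, h3⟩ := R_pair c hc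
        exact ⟨g, g', h1, h2, Subtype.ext h3⟩
      perp := perp.imp_right fun h w hw h0 g g' h1 h2 => Subtype.ext (h w hw h0 g g' h1 h2)
      R_up := fun d t => Subtype.ext (R_up d t)
      R_tor := fun l t => Subtype.ext (R_tor l t)
      R_low := fun t => by
        obtain ⟨τ, h1, h2⟩ := R_low t
        exact ⟨τ, h1, Subtype.ext h2⟩ }
  let πE : E →* Spn F (m + 2) := π.comp E.subtype
  have hi : Function.Injective πE := fun x y h => S.ρ_injective (congrArg ρW h)
  have hs : Function.Surjective πE := by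
    rw [← MonoidHom.range_eq_top]
    refine eq_top_iff.2 (top_le_split.trans ((closure_le _).2 ?_))
    rintro x ((⟨g, rfl⟩ | ⟨s, rfl⟩) | ⟨t, rfl⟩)
    · exact ⟨φE g, hφ g⟩
    · exact ⟨σE s, hσ s⟩
    · exact ⟨RE t, hR t⟩
  let e := MulEquiv.ofBijective πE ⟨hi, hs⟩
  refine ⟨E.subtype.comp e.symm.toMonoidHom, fun g => e.apply_symm_apply g, fun x => ?_⟩
  show (e.symm (sPl x)).1 = σ x
  rw [show (sPl x : Spn F (m + 2)) = e (σE x) from (hσ x).symm, e.symm_apply_apply]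
  rfl

end CfsgLib.SpMult
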