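import Cfsg.Agent.SpMult.Glue
import Cfsg.Agent.SpMult.Central
import Mathlib.Algebra.CharP.Two

/-!
Over two elements: normalised lifts of the transvections give sections, from `Sp₈(2)` on.
-/

set_option autoImplicit false
set_option linter.style.haveILetI false

namespace CfsgLib.SpMult

open Matrix Subgroup CfsgLib.SpPres

universe uF uΓ

variable {F : Type uF} [Field F] {n k : ℕ}

/-- Inclusion on all but the first plane. -/
noncomputable abbrev ι₁ : Vec F n →ₗ[F] Vec F (n + 1) := ext es

theorem res_es (x : Vec F (n + 1)) : res es x = (split x).2 :=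
  funext fun i => by rcases i with i | i <;> rfl

theorem split_ι₁ (v : Vec F n) : split (ι₁ v) = ((0, 0), v) := by
  refine Prod.ext (Prod.ext ?_ ?_) ((res_es (ι₁ v)).symm.trans (res_ext es v))
  · exact ext_of_not_mem es v (x := Sum.inl 0) (by rintro (i | i) <;> simp [pl, es])
  · exact ext_of_not_mem es v (x := Sum.inr 0) (by rintro (i | i) <;> simp [pl, es])

theorem emb_ι₁ (g : Spn F n) (v : Vec F n) : αSp (emb g) (ι₁ v) = ι₁ (αSp g v) := by
  apply split.injective
  have := ρ_emb g (0, 0) v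
  rw [ρW_apply, ← split_ι₁ v, LinearEquiv.symm_apply_apply] at this
  rw [this, split_ι₁]

theorem emb_eB_zero (g : Spn F n) : αSp (emb g) (eB 0) = eB 0 := by
  rw [fix_iff, split_eB_zero, ρ_emb, map_zero]

theorem emb_fB_zero (g : Spn F n) : αSp (emb g) (fB 0) = fB 0 := by
  rw [fix_iff, split_fB_zero, ρ_emb, map_zero]

theorem emb_tr (v : Vec F n) : emb (tr v) = (tr (ι₁ v) : Spn F (n + 1)) := by
  refine αSp_injective <| LinearEquiv.ext fun x => split.injective ?_
  have := ρ_emb (tr v) (split x).1 (split x).2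
  rw [ρW_apply, Prod.mk.eta, LinearEquiv.symm_apply_apply] at this
  rw [this, α_tr, α_tr, map_add, map_smul, split_ι₁, bl_ext, res_es]
  refine Prod.ext (Prod.ext ?_ ?_) rfl <;> simp

theorem emb_injective : Function.Injective (emb : Spn F n →* Spn F (n + 1)) := fun a b h =>
  αSp_injective <| LinearEquiv.ext fun v => by
    have e := congrArg (fun A => αSp A (ι₁ v)) h
    simp only [emb_ι₁] at e
    exact (res_ext es _).symm.trans ((congrArg (res es) e).trans (res_ext es _))

theorem bl_eB_ι₁ (v : Vec F n) : bl (eB 0) (ι₁ v) = 0 := by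
  rw [bl_eB_left]; exact congrArg (fun y => y.1.2) (split_ι₁ v)

theorem bl_fB_ι₁ (v : Vec F n) : bl (fB 0) (ι₁ v) = 0 := by
  rw [bl_fB_left]; exact neg_eq_zero.2 (congrArg (fun y => y.1.1) (split_ι₁ v))

theorem bl_ι₁ (u v : Vec F n) : bl (ι₁ u) (ι₁ v) = bl u v := by
  rw [bl_ext, res_ext]

theorem two_eq_zero (h2 : ∀ x : F, x = 0 ∨ x = 1) : (2 : F) = 0 := by
  rcases h2 ((1 : F) + 1) with h | h
  · rw [← one_add_one_eq_two, h]
  · exact absurd (add_eq_left.1 h) one_ne_zero

theorem tr_three [CharP F 2] {a b : Vec F n} (hab : bl a b = 0) (x : Vec F n) :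
    αSp (tr (a + b)) (αSp (tr b) (αSp (tr a) x)) = x + bl b x • a + bl a x • b := by
  have hba : bl b a = 0 := by rw [bl_skew, hab, neg_zero]
  simp only [α_tr, map_add, map_smul, LinearMap.add_apply, bl_alt, hab, hba, smul_eq_mul, mul_zero, add_zero]
  match_scalars
  · ring
  · linear_combination (bl a x) * (CharTwo.two_eq_zero : (2 : F) = 0)
  · linear_combination (bl b x) * (CharTwo.two_eq_zero : (2 : F) = 0)

/-- Normalised lifts of the transvections. -/
structure TData (F : Type uF) [Field F] (n : ℕ) (Γ : Type uΓ) [Group Γ] where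
  /-- the map below -/
  π : Γ →* Spn F n
  /-- the lifts -/
  X : Vec F n → Γ
  surj : Function.Surjective π
  πX : ∀ v, π (X v) = tr v
  X_zero : X 0 = 1
  cov : ∀ y v, y * X v * y⁻¹ = X (αSp (π y) v)
  sq : ∀ v, X v * X v = 1
  lantern : ∀ a b c, LinearIndependent F ![a, b, c] → bl a b = 0 → bl a c = 0 → bl b c = 0 →
    X a * X b * X c * X (a + b + c) = X (a + b) * X (a + c) * X (b + c)

namespace TData

variable {Γ : Type uΓ} [Group Γ] (D : TData F n Γ)

theorem inv_X (v : Vec F n) : (D.X v)⁻¹ = D.X v := inv_eq_of_mul_eq_one_right (D.sq v)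

theorem comm_of (y : Γ) (v : Vec F n) (h : αSp (D.π y) v = v) : Commute y (D.X v) :=
  mul_inv_eq_iff_eq_mul.1 ((D.cov y v).trans (by rw [h]))

theorem comm_X {u v : Vec F n} (h : bl u v = 0) : Commute (D.X u) (D.X v) :=
  D.comm_of _ v (by rw [D.πX, α_tr, h, zero_smul, add_zero])

theorem conj_X (u v : Vec F n) : D.X u * D.X v * D.X u = D.X (v + bl u v • u) := by
  have := D.cov (D.X u) v
  rwa [D.πX, α_tr, D.inv_X] at this

theorem key [CharP F 2] {o a b : Vec F n} (hoa : bl o a = 0) (hob : bl o b = 0) (hab : bl a b = 1) :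
    D.X (o + a) * D.X a * D.X (o + b) * D.X b = D.X (o + a + b) * D.X (a + b) := by
  have vadd : ∀ v : Vec F n, v + v = 0 := fun v => funext fun i => CharTwo.add_self_eq_zero (v i)
  have hba : bl b a = 1 := by rw [bl_skew, hab, CharTwo.neg_eq]
  have hbo : bl b o = 0 := by rw [bl_skew, hob, neg_zero]
  have hao : bl a o = 0 := by rw [bl_skew, hoa, neg_zero]
  have e1 := D.conj_X (o + a) b
  have e2 := D.conj_X a (b + (o + a))
  have e3 := D.conj_X b (o + a)
  have e4 := D.conj_X b a
  simp only [map_add, LinearMap.add_apply, hab, hob, hba, hbo, hao, bl_alt, zero_add, add_zero, one_smul]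
    at e1 e2 e3 e4
  rw [show b + (o + a) + a = o + b + (a + a) by abel, vadd, add_zero] at e2
  rw [← e2, ← e1, ← e3, ← e4]
  simp only [mul_assoc]
  rw [← mul_assoc (D.X a) (D.X a), D.sq, one_mul, ← mul_assoc (D.X (o + a)) (D.X (o + a)), D.sq, one_mul,
    ← mul_assoc (D.X b) (D.X b) (D.X a * D.X b), D.sq, one_mul]

end TData

/-- The plane of a set of lifts. -/
theorem exists_plane [CharP F 2] (h2 : ∀ x : F, x = 0 ∨ x = 1) {Γ : Type uΓ} [Group Γ]
    (D : TData F (n + 1) Γ) :
    ∃ σ : SpecialLinearGroup (Fin 2) F →* Γ, (∀ s, D.π (σ s) = sPl s) ∧ σ (sa 1) = D.X (eB 0) ∧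
      σ (sb 1) = D.X (fB 0) ∧
      ∀ y, Commute y (D.X (eB 0)) → Commute y (D.X (fB 0)) → ∀ s, Commute y (σ s) := by
  classical
  have vadd : ∀ v : Vec F (n + 1), v + v = 0 := fun v => funext fun i => CharTwo.add_self_eq_zero (v i)
  set e : Vec F (n + 1) := eB 0
  set f : Vec F (n + 1) := fB 0
  have hef : bl e f = 1 := by simp [e, f, bl_eB_left, fB]
  have hfe : bl f e = 1 := by rw [bl_skew, hef, CharTwo.neg_eq]
  have hee : bl e e = 0 := bl_alt e
  have hff : bl f f = 0 := bl_alt f
  set A := D.X e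
  set B := D.X f
  have hA : D.π A = sPl (sa 1) := by rw [D.πX, tr_eB_zero]
  have hB : D.π B = sPl (sb 1) := by
    rw [D.πX]
    refine αSp_injective <| LinearEquiv.ext fun x => split.injective ?_
    rw [α_tr, α_sPl, map_add, map_smul, split_fB_zero, bl_fB_left, CharTwo.neg_eq]
    have ex : x (Sum.inl 0) = (split x).1.1 := rfl
    rw [ex]
    refine Prod.ext (Prod.ext ?_ ?_) ?_ <;> simp [act2, sb, mk2_apply, add_comm]
  have braid : B * A * B = A * B * A := by
    rw [D.conj_X, D.conj_X, hef, hfe, one_smul, one_smul, add_comm e f]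
  let K : Subgroup Γ := closure {A, B}
  have six : ∀ x ∈ K, x = 1 ∨ x = A ∨ x = B ∨ x = A * B ∨ x = B * A ∨ x = A * B * A := by
    intro x hx
    have hAA : A * A = 1 := D.sq e
    have hBB : B * B = 1 := D.sq f
    have step : ∀ g ∈ ({A, B} : Set Γ), ∀ y,
        (y = 1 ∨ y = A ∨ y = B ∨ y = A * B ∨ y = B * A ∨ y = A * B * A) →
        (g * y = 1 ∨ g * y = A ∨ g * y = B ∨ g * y = A * B ∨ g * y = B * A ∨ g * y = A * B * A) := by
      rintro g (rfl | rfl) y (rfl | rfl | rfl | rfl | rfl | rfl)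
      · exact Or.inr (Or.inl (mul_one _))
      · exact Or.inl hAA
      · exact Or.inr (Or.inr (Or.inr (Or.inl rfl)))
      · exact Or.inr (Or.inr (Or.inl (by rw [← mul_assoc, hAA, one_mul])))
      · exact Or.inr (Or.inr (Or.inr (Or.inr (Or.inr (mul_assoc _ _ _).symm))))
      · exact Or.inr (Or.inr (Or.inr (Or.inr (Or.inl (by rw [← mul_assoc, ← mul_assoc, hAA, one_mul])))))
      · exact Or.inr (Or.inr (Or.inl (mul_one _)))
      · exact Or.inr (Or.inr (Or.inr (Or.inr (Or.inl rfl))))
      · exact Or.inl hBB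
      · exact Or.inr (Or.inr (Or.inr (Or.inr (Or.inr (by rw [← mul_assoc, braid])))))
      · exact Or.inr (Or.inl (by rw [← mul_assoc, hBB, one_mul]))
      · exact Or.inr (Or.inr (Or.inr (Or.inl (by
          rw [← braid, ← mul_assoc, ← mul_assoc, hBB, one_mul]))))
    induction hx using closure_induction_left with
    | one => exact Or.inl rfl
    | mul_left g hg y _ ih => exact step g hg y ih
    | inv_mul_cancel g hg y _ ih =>
      have : g⁻¹ = g := by
        rcases hg with rfl | rfl <;> exact D.inv_X _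
      rw [this]; exact step g hg y ih
  have hne : ∀ v : Vec F (n + 1), v ≠ 0 → ∀ u, u + v ≠ u := fun v hv u h => hv (add_eq_left.1 h)
  have he0 : e ≠ 0 := fun h => by rw [h, map_zero, LinearMap.zero_apply] at hef; exact zero_ne_one hef
  have hf0 : f ≠ 0 := fun h => by rw [h, map_zero] at hef; exact zero_ne_one hef
  have inj : ∀ x ∈ K, D.π x = 1 → x = 1 := by
    intro x hx h
    have h' : ∀ v, αSp (D.π x) v = v := fun v => by rw [h, map_one]; rfl
    rcases six x hx with rfl | rfl | rfl | rfl | rfl | rfl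
    · rfl
    · have := h' f; rw [D.πX, α_tr, hef, one_smul] at this; exact absurd this (hne e he0 f)
    · have := h' e; rw [D.πX, α_tr, hfe, one_smul] at this; exact absurd this (hne f hf0 e)
    · have := h' f
      simp only [map_mul, LinearEquiv.mul_apply, A, B, D.πX, α_tr, hef, hff, zero_smul, add_zero, one_smul] at this
      exact absurd this (hne e he0 f)
    · have := h' e
      simp only [map_mul, LinearEquiv.mul_apply, A, B, D.πX, α_tr, hfe, hee, zero_smul, add_zero, one_smul] at this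
      exact absurd this (hne f hf0 e)
    · have := h' f
      simp only [map_mul, LinearEquiv.mul_apply, A, B, D.πX, α_tr, hef, hfe, hee, hff, map_add, zero_smul, add_zero,
        zero_add, one_smul] at this
      rw [show f + e + (e + (f + e)) = e + (f + f) + (e + e) by abel, vadd, vadd, add_zero, add_zero] at this
      rw [← this, hee] at hef
      exact absurd hef zero_ne_one
  have hmA : A ∈ K := subset_closure (Or.inl rfl)
  have hmB : B ∈ K := subset_closure (Or.inr rfl)
  have hsa : ∀ d, ∃ x ∈ K, D.π x = sPl (sa d) := fun d => by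
    rcases h2 d with rfl | rfl
    · exact ⟨1, one_mem K, by rw [sa_zero, map_one, map_one]⟩
    · exact ⟨A, hmA, hA⟩
  have hsh : ∀ l : Fˣ, sh l = 1 := fun l => by
    have : (l : F) = 1 := (h2 l).resolve_left l.ne_zero
    rw [Units.val_eq_one.1 this]
    apply sl_ext <;> simp [sh, mk2_apply]
  have hsw : (sw : SpecialLinearGroup (Fin 2) F) = sa 1 * sb 1 * sa 1 := by
    apply sl_ext <;> simp [sl_mul, sa, sb, sw, mk2_apply, CharTwo.add_self_eq_zero, CharTwo.neg_eq]
  have hall : ∀ s, ∃ x, x ∈ K ∧ D.π x = sPl s := by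
    intro s
    by_cases h : s.1 1 0 = 0
    · obtain ⟨l, d, rfl⟩ := exists_borel h
      rw [hsh, one_mul]; exact hsa d
    · obtain ⟨d, d', e'⟩ := exists_bruhat h
      obtain ⟨x, hx, ex⟩ := hsa d
      obtain ⟨x', hx', ex'⟩ := hsa d'
      exact ⟨x * (A * B * A) * x', mul_mem (mul_mem hx (mul_mem (mul_mem hmA hmB) hmA)) hx', by
        rw [e', hsh, mul_one, hsw]; simp only [map_mul, ex, ex', hA, hB]⟩
  choose σ hσK hσπ using hall
  have uniq : ∀ x ∈ K, ∀ s, D.π x = sPl s → σ s = x := fun x hx s hs =>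
    inv_mul_eq_one.1 (inj _ (mul_mem (inv_mem hx) (hσK s)) (by
      rw [map_mul, map_inv, hs, hσπ, inv_mul_cancel])) |>.symm
  refine ⟨MonoidHom.mk' σ fun s t => uniq _ (mul_mem (hσK s) (hσK t)) _ (by rw [map_mul, hσπ, hσπ, map_mul]),
    hσπ, uniq _ hmA _ hA, uniq _ hmB _ hB, fun y ha hb s => ?_⟩
  have : K ≤ centralizer {y} := (closure_le _).2 (by
    rintro z (rfl | rfl) <;> rw [SetLike.mem_coe, mem_centralizer_singleton_iff]
    · exact ha.eq.symm
    · exact hb.eq.symm)
  exact (mem_centralizer_singleton_iff.1 (this (hσK s))).symm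

theorem sPl_surjective : Function.Surjective (sPl : SpecialLinearGroup (Fin 2) F →* Spn F (0 + 1)) := fun A => by
  obtain ⟨s, hs⟩ := exists_of_zero (A := A) (fun l hl => absurd (Fin.ext (by omega)) hl)
  exact ⟨s, hs.symm⟩

/-- Lifts of transvections give sections. -/
theorem TData.exists_section (h2 : ∀ x : F, x = 0 ∨ x = 1) : ∀ (k : ℕ) {Γ : Type uΓ} [Group Γ]
    (D : TData F k Γ), ∃ s : Spn F k →* Γ, (∀ g, D.π (s g) = g) ∧ ∀ v, s (tr v) = D.X v := by
  classical
  haveI : CharP F 2 := CharTwo.of_one_ne_zero_of_two_eq_zero one_ne_zero (two_eq_zero h2)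
  -- covariance spreads the value at the first basis vector
  have spread : ∀ {k : ℕ} {Γ : Type uΓ} [Group Γ] (D : TData F (k + 1) Γ) (s : Spn F (k + 1) →* Γ),
      (∀ g, D.π (s g) = g) → s (tr (eB 0)) = D.X (eB 0) → ∀ v, s (tr v) = D.X v := by
    intro k Γ _ D s hs h0 v
    by_cases hv : v = 0
    · rw [hv, tr_zero, map_one, D.X_zero]
    obtain ⟨g, rfl⟩ := trans_vec v hv
    rw [← tr_conj, map_mul, map_mul, map_inv, h0, D.cov, hs]
  intro k
  induction k with
  | zero =>
    intro Γ _ D
    refine ⟨1, fun g => by rw [spn_zero_eq_one g]; exact map_one _, fun v => ?_⟩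
    rw [show v = 0 from funext fun i => i.elim Fin.elim0 Fin.elim0, D.X_zero]
    rfl
  | succ k ih =>
    intro Γ _ D
    obtain ⟨σ, hσ, hσa, hσb, hσc⟩ := exists_plane h2 D
    rcases Nat.eq_zero_or_pos k with rfl | hk
    · have hinj : Function.Injective (sPl : SpecialLinearGroup (Fin 2) F →* Spn F (0 + 1)) := fun a b h => by
        have key : ∀ p : F × F, act2 a p = act2 b p := fun p => by
          have := congrArg (fun A => (ρW A (p, (0 : Vec F 0))).1) h
          simpa [ρ_sPl] using this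
        have e1 := key (1, 0)
        have e2 := key (0, 1)
        simp [act2] at e1 e2
        exact sl_ext e1.1 e2.1 e1.2 e2.2
      let e := MulEquiv.ofBijective sPl ⟨hinj, sPl_surjective (F := F)⟩
      have hs : ∀ g, D.π ((σ.comp e.symm.toMonoidHom) g) = g := fun g => by
        show D.π (σ (e.symm g)) = g
        rw [hσ]; exact e.apply_symm_apply g
      refine ⟨σ.comp e.symm.toMonoidHom, hs, spread D _ hs ?_⟩
      show σ (e.symm (tr (eB 0))) = _
      rw [tr_eB_zero, show (sPl (sa 1) : Spn F (0 + 1)) = e (sa 1) from rfl, e.symm_apply_apply, hσa]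
    obtain ⟨m, rfl⟩ : ∃ m, k = m + 1 := ⟨k - 1, by omega⟩
    -- restriction to the smaller group
    let Γ' : Subgroup Γ := ((emb (F := F) (n := m + 1)).range).comap D.π
    let eq' := MonoidHom.ofInjective (emb_injective (F := F) (n := m + 1))
    let π' : Γ' →* Spn F (m + 1) :=
      eq'.symm.toMonoidHom.comp ((D.π.comp Γ'.subtype).codRestrict _ fun y => y.2)
    have hπ' : ∀ y : Γ', emb (π' y) = D.π y := fun y =>
      MonoidHom.apply_ofInjective_symm (emb_injective (F := F)) _
    let X' : Vec F (m + 1) → Γ' := fun v => ⟨D.X (ι₁ v), ⟨tr v, (emb_tr v).trans (D.πX _).symm⟩⟩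
    let D' : TData F (m + 1) Γ' :=
      { π := π'
        X := X'
        surj := fun g => by
          obtain ⟨y, hy⟩ := D.surj (emb g)
          exact ⟨⟨y, ⟨g, hy.symm⟩⟩, emb_injective ((hπ' _).trans hy)⟩
        πX := fun v => emb_injective ((hπ' _).trans ((D.πX _).trans (emb_tr v).symm))
        X_zero := Subtype.ext (by show D.X (ι₁ 0) = 1; rw [map_zero, D.X_zero])
        cov := fun y v => Subtype.ext (by
          show (y : Γ) * D.X (ι₁ v) * (y : Γ)⁻¹ = D.X (ι₁ _)
          rw [D.cov, ← hπ', emb_ι₁])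
        sq := fun v => Subtype.ext (D.sq _)
        lantern := fun a b c hli hab hac hbc => Subtype.ext (by
          show D.X (ι₁ a) * D.X (ι₁ b) * D.X (ι₁ c) * D.X (ι₁ (a + b + c)) =
            D.X (ι₁ (a + b)) * D.X (ι₁ (a + c)) * D.X (ι₁ (b + c))
          simp only [map_add]
          refine D.lantern _ _ _ ?_ (by rwa [bl_ι₁]) (by rwa [bl_ι₁]) (by rwa [bl_ι₁])
          rw [Fintype.linearIndependent_iff] at hli ⊢
          intro g hg
          refine hli g ?_
          simp only [Fin.sum_univ_three, Matrix.cons_val_zero, Matrix.cons_val_one, Matrix.cons_val_two,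
            Matrix.head_cons, Matrix.tail_cons] at hg ⊢
          have := congrArg (res es) hg
          simpa [res_ext] using this) }
    obtain ⟨s', hs', hs'X⟩ := ih D'
    let φ : Spn F (m + 1) →* Γ := Γ'.subtype.comp s'
    have hφ : ∀ g, D.π (φ g) = emb g := fun g => (hπ' (s' g)).symm.trans (congrArg emb (hs' g))
    have hφX : ∀ v, φ (tr v) = D.X (ι₁ v) := fun v => congrArg Subtype.val (hs'X v)
    set O : Vec F (m + 2) := eB 0
    set F0 : Vec F (m + 2) := fB 0
    let Rw : Vec F (m + 1) → Γ := fun w => D.X (O + ι₁ w) * D.X (ι₁ w) * D.X O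
    let R : F → Γ := fun t => if t = 0 then 1 else Rw (eB 0)
    have hR0 : R 0 = 1 := if_pos rfl
    have hR1 : R 1 = Rw (eB 0) := if_neg one_ne_zero
    have hRw : ∀ g w, φ g * Rw w * (φ g)⁻¹ = Rw (αSp g w) := fun g w => by
      show φ g * (D.X (O + ι₁ w) * D.X (ι₁ w) * D.X O) * (φ g)⁻¹ = D.X (O + _) * D.X _ * D.X O
      rw [show φ g * (D.X (O + ι₁ w) * D.X (ι₁ w) * D.X O) * (φ g)⁻¹ = (φ g * D.X (O + ι₁ w) * (φ g)⁻¹) *
        (φ g * D.X (ι₁ w) * (φ g)⁻¹) * (φ g * D.X O * (φ g)⁻¹) by group, D.cov, D.cov, D.cov, hφ, map_add,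
        emb_ι₁, emb_eB_zero]
    have hOι : ∀ w, bl O (ι₁ w) = 0 := bl_eB_ι₁
    have hιO : ∀ w, bl (ι₁ w) O = 0 := fun w => by rw [bl_skew, hOι, neg_zero]
    have hOw : ∀ w, bl O (O + ι₁ w) = 0 := fun w => by rw [map_add, bl_alt, hOι, add_zero]
    have hwO : ∀ w, bl (O + ι₁ w) (ι₁ w) = 0 := fun w => by
      rw [map_add, LinearMap.add_apply, bl_alt, hOι, add_zero]
    have cO : ∀ w, Commute (D.X O) (D.X (O + ι₁ w)) ∧ Commute (D.X O) (D.X (ι₁ w)) ∧
        Commute (D.X (O + ι₁ w)) (D.X (ι₁ w)) := fun w =>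
      ⟨D.comm_X (hOw w), D.comm_X (hOι w), D.comm_X (hwO w)⟩
    have hOOw : ∀ x w : Vec F (m + 1), bl (O + ι₁ x) (O + ι₁ w) = bl x w := fun x w => by
      simp [hOι, hιO, bl_ι₁, bl_alt]
    have drop : ∀ x w, Rw x * Rw w = D.X (O + ι₁ x) * D.X (ι₁ x) * D.X (O + ι₁ w) * D.X (ι₁ w) := fun x w => by
      show D.X (O + ι₁ x) * D.X (ι₁ x) * D.X O * (D.X (O + ι₁ w) * D.X (ι₁ w) * D.X O) = _
      rw [show D.X (O + ι₁ x) * D.X (ι₁ x) * D.X O * (D.X (O + ι₁ w) * D.X (ι₁ w) * D.X O) =
        D.X (O + ι₁ x) * D.X (ι₁ x) * (D.X O * (D.X (O + ι₁ w) * D.X (ι₁ w)) * D.X O) by group,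
        (((cO w).1).mul_right (cO w).2.1).eq, mul_assoc _ (D.X O) (D.X O), D.sq, mul_one, ← mul_assoc]
    have hπR : ∀ t, D.π (R t) = qEl (t • eB 0) := fun t => by
      rcases h2 t with rfl | rfl
      · rw [hR0, map_one, zero_smul, qEl_zero]
      · rw [hR1, one_smul]
        show D.π (D.X (O + ι₁ (eB 0)) * D.X (ι₁ (eB 0)) * D.X O) = _
        rw [map_mul, map_mul, D.πX, D.πX, D.πX]
        refine αSp_injective <| LinearEquiv.ext fun x => split.injective ?_
        rw [αSp_mul, αSp_mul, tr_three (hOι _), split_qEl, bl_ext, res_es,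
          show bl O x = (split x).1.2 from bl_eB_left x 0]
        simp only [map_add, map_smul, split_ι₁, show split O = ((1, 0), 0) from split_eB_zero]
        refine Prod.ext (Prod.ext ?_ ?_) ?_ <;> simp
    have hF0ι : ∀ w, bl F0 (ι₁ w) = 0 := bl_fB_ι₁
    have hιF0 : ∀ w, bl (ι₁ w) F0 = 0 := fun w => by rw [bl_skew, hF0ι, neg_zero]
    have hFO : bl F0 O = 1 := by
      rw [bl_skew, show bl O F0 = 1 by simp [O, F0, bl_eB_left, fB], CharTwo.neg_eq]
    obtain ⟨s, hs, hsσ⟩ := section_of D.π φ σ R hφ hσ hπR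
      (fun g s => hσc (φ g) (D.comm_of _ _ (by rw [hφ, emb_eB_zero])) (D.comm_of _ _ (by rw [hφ, emb_fB_zero])) s)
      (fun t u => by
        rcases h2 t with rfl | rfl
        · rw [zero_add, hR0, one_mul]
        rcases h2 u with rfl | rfl
        · rw [add_zero, hR0, mul_one]
        rw [CharTwo.add_self_eq_zero, hR0, hR1, drop, mul_assoc, (cO (eB 0)).2.2.symm.mul_mul_mul_comm, D.sq, D.sq,
          one_mul])
      (fun g c hg t => by
        have hc1 : c = 1 := (h2 c).resolve_left fun e0 => by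
          rw [e0, zero_smul] at hg
          have := congrFun ((LinearEquiv.map_eq_zero_iff _).1 hg) (Sum.inl 0)
          simp [eB] at this
        subst hc1
        rw [one_mul]
        rcases h2 t with rfl | rfl
        · rw [hR0, mul_one, mul_inv_cancel]
        · rw [hR1, hRw, hg, one_smul])
      (fun c hc => by
        obtain rfl := (h2 c).resolve_left hc
        have hdet : (0 : F) * 0 - -(1 : F)⁻¹ * 1 = 1 := by simp
        obtain ⟨hg, hg'⟩ := α_pairs (m := m) 1 one_ne_zero hdet
        refine ⟨sPl (mk2 0 (-(1 : F)⁻¹) 1 0 hdet), sPl (sb 1), hg, hg', ?_⟩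
        rw [hR1, hRw, hRw, hg, hg', one_smul, hσa, drop, D.key (hOι _) (hOι _) (by
          rw [bl_ι₁]; simp [bl_eB_left, fB])]
        show _ = D.X (O + ι₁ (eB 0 + fB 0)) * D.X (ι₁ (eB 0 + fB 0)) * D.X O * D.X O
        rw [mul_assoc _ (D.X O), D.sq, mul_one, map_add, add_assoc O])
      (Or.inr fun w hw h0 g g' hg hg' => by
        rw [hR1, hRw, hRw, hg, hg', drop]
        set a : Vec F (m + 1) := eB 0
        have hli : LinearIndependent F ![O, ι₁ a, ι₁ w] := by
          rw [Fintype.linearIndependent_iff]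
          intro c hc0
          simp only [Fin.sum_univ_three, Matrix.cons_val_zero, Matrix.cons_val_one, Matrix.cons_val_two] at hc0
          have e := congrArg split hc0
          simp [map_add, map_smul, split_ι₁, O, split_eB_zero, Prod.ext_iff] at e
          obtain ⟨e1, e2⟩ := e
          have ec : c 2 = 0 := by
            by_contra hne
            apply hw (-(c 1))
            rw [(h2 (c 2)).resolve_left hne, one_smul] at e2
            rw [neg_smul]
            exact eq_neg_of_add_eq_zero_right e2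
          have ea : c 1 = 0 := by
            rw [ec, zero_smul, add_zero] at e2
            rcases smul_eq_zero.1 e2 with h | h
            · exact h
            · exact absurd (congrFun h (Sum.inl 0)) (by simp [a, eB])
          intro i; fin_cases i <;> assumption
        have h01 : bl (ι₁ a) (ι₁ w) = 0 := by rw [bl_ι₁]; exact h0
        have L := D.lantern O (ι₁ a) (ι₁ w) hli (hOι _) (hOι _) h01
        show _ = D.X (O + ι₁ (a + w)) * D.X (ι₁ (a + w)) * D.X O
        rw [map_add, ← add_assoc]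
        have h10 : bl (ι₁ w) (ι₁ a) = 0 := by rw [bl_skew, h01, neg_zero]
        calc D.X (O + ι₁ a) * D.X (ι₁ a) * D.X (O + ι₁ w) * D.X (ι₁ w)
            = D.X (O + ι₁ a) * D.X (O + ι₁ w) * D.X (ι₁ a + ι₁ w) *
                (D.X (ι₁ a + ι₁ w) * (D.X (ι₁ a) * D.X (ι₁ w))) := by
              rw [mul_assoc _ (D.X (ι₁ a)), (D.comm_X (u := ι₁ a) (v := O + ι₁ w) (by
                rw [map_add, hιO, h01, add_zero])).eq]
              simp only [mul_assoc]
              rw [← mul_assoc (D.X (ι₁ a + ι₁ w)) (D.X (ι₁ a + ι₁ w)), D.sq, one_mul]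
          _ = _ := by
            rw [← L]
            have c1 : Commute (D.X (O + ι₁ a + ι₁ w)) (D.X (ι₁ a + ι₁ w)) := D.comm_X (by
              simp [hOι, h01, h10, bl_alt])
            have c2 : Commute (D.X O) (D.X (ι₁ a) * D.X (ι₁ w)) :=
              (D.comm_X (hOι a)).mul_right (D.comm_X (hOι w))
            have c3 : Commute (D.X (ι₁ a) * D.X (ι₁ w)) (D.X (O + ι₁ a + ι₁ w) * D.X (ι₁ a + ι₁ w)) := by
              refine Commute.mul_left ?_ ?_ <;> refine Commute.mul_right ?_ ?_ <;> refine D.comm_X ?_ <;>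
                simp [hιO, h01, h10, bl_alt]
            have c4 : Commute (D.X O) (D.X (O + ι₁ a + ι₁ w) * D.X (ι₁ a + ι₁ w)) := by
              refine Commute.mul_right ?_ ?_ <;> refine D.comm_X ?_ <;> simp [hOι, bl_alt]
            have sqP : D.X (ι₁ a) * D.X (ι₁ w) * (D.X (ι₁ a) * D.X (ι₁ w)) = 1 := by
              rw [(D.comm_X h01).symm.mul_mul_mul_comm, D.sq, D.sq, one_mul]
            calc D.X O * D.X (ι₁ a) * D.X (ι₁ w) * D.X (O + ι₁ a + ι₁ w) *
                  (D.X (ι₁ a + ι₁ w) * (D.X (ι₁ a) * D.X (ι₁ w)))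
                = D.X O * ((D.X (ι₁ a) * D.X (ι₁ w)) * (D.X (O + ι₁ a + ι₁ w) * D.X (ι₁ a + ι₁ w))) *
                    (D.X (ι₁ a) * D.X (ι₁ w)) := by simp only [mul_assoc]
              _ = D.X O * (D.X (O + ι₁ a + ι₁ w) * D.X (ι₁ a + ι₁ w)) *
                    ((D.X (ι₁ a) * D.X (ι₁ w)) * (D.X (ι₁ a) * D.X (ι₁ w))) := by
                rw [c3.eq]; simp only [mul_assoc]
              _ = _ := by rw [sqP, mul_one, c4.eq])
      (fun d t => by
        rcases h2 d with rfl | rfl
        · rw [sa_zero, map_one, one_mul, mul_one]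
        rcases h2 t with rfl | rfl
        · rw [hR0, one_mul, mul_one]
        rw [hσa, hR1]
        exact (((cO (eB 0)).1.mul_right (cO (eB 0)).2.1).mul_right (Commute.refl _)).eq)
      (fun l t => by
        have hl : l = 1 := Units.val_eq_one.1 ((h2 l).resolve_left l.ne_zero)
        subst hl
        have h1 : sh (1 : Fˣ) = (1 : SpecialLinearGroup (Fin 2) F) := by apply sl_ext <;> simp [sh, mk2_apply]
        rw [h1, map_one, one_mul, inv_one, mul_one, Units.val_one, one_mul])
      (fun t => by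
        rcases h2 t with rfl | rfl
        · have h1 : sb (0 : F) = (1 : SpecialLinearGroup (Fin 2) F) := by apply sl_ext <;> simp [sb, mk2_apply]
          refine ⟨1, fun x => by simp, ?_⟩
          simp [h1, hR0]
        refine ⟨tr (eB 0), fun x => by rw [α_tr, one_mul], ?_⟩
        rw [hφX, hσb, D.inv_X, hR1]
        set E := ι₁ (eB 0 : Vec F (m + 1)) with hE
        show D.X F0 * (D.X (O + E) * D.X E * D.X O) * D.X F0 =
          σ sw * (D.X (O + E) * D.X E * D.X O) * (σ sw)⁻¹ * D.X E * (D.X (O + E) * D.X E * D.X O)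
        have hswO : αSp (sPl sw : Spn F (m + 2)) O = F0 := by
          apply split.injective
          rw [α_sPl, show split O = ((1, 0), 0) from split_eB_zero, show split F0 = ((0, 1), 0) from split_fB_zero]
          simp [act2, sw, mk2_apply]
        have hswE : αSp (sPl sw : Spn F (m + 2)) E = E := by
          apply split.injective
          rw [α_sPl, hE, split_ι₁]; simp [act2]
        rw [show σ sw * (D.X (O + E) * D.X E * D.X O) * (σ sw)⁻¹ = (σ sw * D.X (O + E) * (σ sw)⁻¹) *
          (σ sw * D.X E * (σ sw)⁻¹) * (σ sw * D.X O * (σ sw)⁻¹) by group, D.cov, D.cov, D.cov, hσ, map_add,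
          hswO, hswE]
        have hEF : bl E F0 = 0 := hιF0 _
        have hEO : bl E O = 0 := hιO _
        have hEE : bl E E = 0 := bl_alt E
        have k := D.key (o := E) (a := F0) (b := O) hEF hEO hFO
        have cEF : Commute (D.X E) (D.X F0) := D.comm_X hEF
        have cEO : Commute (D.X E) (D.X O) := D.comm_X hEO
        have cEOE : Commute (D.X E) (D.X (O + E)) := D.comm_X (by rw [map_add, hEO, hEE, add_zero])
        have e1 := D.conj_X F0 (O + E)
        have e2 := D.conj_X F0 O
        rw [map_add, hF0ι, hFO, add_zero, one_smul] at e1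
        rw [hFO, one_smul] at e2
        have cE2 : Commute (D.X E) (D.X (O + F0)) := D.comm_X (by rw [map_add, hEO, hEF, add_zero])
        calc D.X F0 * (D.X (O + E) * D.X E * D.X O) * D.X F0
            = D.X F0 * D.X (O + E) * D.X F0 * (D.X F0 * D.X E * D.X F0) * (D.X F0 * D.X O * D.X F0) := by
              simp only [mul_assoc]
              rw [← mul_assoc (D.X F0) (D.X F0) (D.X E * _), D.sq, one_mul,
                ← mul_assoc (D.X F0) (D.X F0) (D.X O * _), D.sq, one_mul]
          _ = D.X (E + F0 + O) * D.X (F0 + O) * D.X E := by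
              rw [e1, e2, ← cEF.eq, mul_assoc (D.X E), D.sq, mul_one, mul_assoc, cE2.eq,
                show O + E + F0 = E + F0 + O by abel, add_comm O F0, ← mul_assoc]
          _ = D.X (E + F0) * D.X F0 * (D.X (E + O) * D.X O * D.X E) := by
              rw [← k]; simp only [mul_assoc]
          _ = _ := by
              rw [add_comm E F0, add_comm E O, mul_assoc (D.X (O + E)), ← cEO.eq, ← mul_assoc (D.X (O + E))]
              have e3 : D.X (F0 + E) * D.X E * D.X F0 * D.X E = D.X (F0 + E) * D.X F0 := by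
                rw [mul_assoc (D.X (F0 + E)), cEF.eq, mul_assoc, mul_assoc (D.X F0), D.sq, mul_one]
              rw [e3])
    refine ⟨s, hs, spread D s hs ?_⟩
    rw [tr_eB_zero, hsσ, hσa]

end CfsgLib.SpMult
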