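import Cfsg.Agent.SpMult.Glue
import Cfsg.Agent.SpMult.Central

/-!
Over more than two elements splitting goes up from `Sp_{2n}` to `Sp_{2n+2}`.
-/

set_option autoImplicit false

namespace CfsgLib.SpMult

open Matrix Subgroup CfsgLib.SpPres
open scoped commutatorElement

universe u

variable {F : Type u} [Field F]

theorem sPl_eq_e0 {n : ℕ} (s : SpecialLinearGroup (Fin 2) F) :
    (sPl s : Spn F (n + 1)) = blk e0 (sPl s : Spn F 1) := by
  refine αSp_injective <| LinearEquiv.ext fun v => split.injective ?_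
  rw [α_sPl]
  refine Prod.ext (Prod.ext ?_ ?_) (funext fun i => ?_)
  · show _ = αSp (blk e0 (sPl s : Spn F 1)) v (pl e0 (Sum.inl 0))
    rw [blk_mem]
    exact (congrArg (fun y => y.1.1) (α_sPl s (res e0 v))).symm
  · show _ = αSp (blk e0 (sPl s : Spn F 1)) v (pl e0 (Sum.inr 0))
    rw [blk_mem]
    exact (congrArg (fun y => y.1.2) (α_sPl s (res e0 v))).symm
  · rcases i with i | i
    · exact (blk_not_mem e0 _ v (x := Sum.inl i.succ) (by
        rintro (j | j) e <;> simp [pl, e0] at e; exact Fin.succ_ne_zero i e.symm)).symm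
    · exact (blk_not_mem e0 _ v (x := Sum.inr i.succ) (by
        rintro (j | j) e <;> simp [pl, e0] at e; exact Fin.succ_ne_zero i e.symm)).symm

/-- The first and the third plane. -/
def e02 {m : ℕ} : Fin 2 ↪ Fin (m + 3) :=
  ⟨fun i => ⟨2 * i, by omega⟩, fun a b h => Fin.ext (by have := congrArg Fin.val h; simp at this; omega)⟩

theorem e01_val {n : ℕ} (i : Fin 2) : ((e01 i : Fin (n + 2)) : ℕ) = i := rfl
theorem e02_val {n : ℕ} (i : Fin 2) : ((e02 i : Fin (n + 3)) : ℕ) = 2 * i := rfl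
theorem es_val {n : ℕ} (i : Fin n) : ((es i : Fin (n + 1)) : ℕ) = i + 1 := rfl
theorem e0_val {n : ℕ} (i : Fin 1) : ((e0 i : Fin (n + 1)) : ℕ) = 0 := rfl

theorem splits_succ [Finite F] (hF : ∃ a : F, a ≠ 0 ∧ a ≠ 1) {m : ℕ}
    (hperf2 : commutator (Spn F 2) = ⊤) (h2 : Splits (Spn F 2))
    (hperf : commutator (Spn F (m + 2)) = ⊤) (h : Splits (Spn F (m + 2))) : Splits (Spn F (m + 3)) := by
  intro Γ _ _ π hπ hc
  obtain ⟨θ, hθ⟩ := h2.lift hπ hc (blk (e01 (n := m + 1)))
  obtain ⟨φ, hφ⟩ := h.lift hπ hc (emb (n := m + 2))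
  obtain ⟨θ', hθ'⟩ := h2.lift hπ hc (blk (e02 (m := m)))
  let p1 : SpecialLinearGroup (Fin 2) F →* Spn F 2 := (emb (n := 1)).comp sPl
  -- the two sections agree on the second plane
  let T := θ' (permPl (Equiv.swap 0 1))
  let κ : Fin 2 ↪ Fin (m + 2) := (Equiv.swap (0 : Fin 2) 1).toEmbedding.trans e01
  let P : Equiv.Perm (Fin (m + 3)) := Equiv.swap 0 ⟨2, by omega⟩
  have hP : blk e02 (permPl (Equiv.swap 0 1)) = (permPl P : Spn F (m + 3)) := by
    refine (permPl_blk _ e02 P (fun i => ?_) fun x hx => ?_).symm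
    · fin_cases i
      · exact (Equiv.swap_apply_left _ _)
      · exact (Equiv.swap_apply_right _ _)
    · rw [Equiv.symm_swap]
      exact Equiv.swap_apply_of_ne_of_ne (fun e => hx 0 (e ▸ rfl)) (fun e => hx 1 (e ▸ rfl))
  have hconj : φ.comp (blk κ) = (MulAut.conj T).toMonoidHom.comp θ := by
    refine hom_unique hperf2 hc fun g => ?_
    show π (φ (blk κ g)) = π (T * θ g * T⁻¹)
    rw [hφ, map_mul, map_mul, map_inv, hθ', hθ, hP, permPl_conj, mul_inv_cancel_right, emb_eq_blk, blk_comp]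
    congr 2
    ext i
    fin_cases i
    · show ((es (e01 (Equiv.swap (0 : Fin 2) 1 0)) : Fin (m + 3)) : ℕ) = ((P (e01 0) : Fin (m + 3)) : ℕ)
      rw [Equiv.swap_apply_left, show (e01 0 : Fin (m + 3)) = 0 from rfl,
        show P 0 = ⟨2, by omega⟩ from Equiv.swap_apply_left _ _, es_val, e01_val]
      rfl
    · show ((es (e01 (Equiv.swap (0 : Fin 2) 1 1)) : Fin (m + 3)) : ℕ) = ((P (e01 1) : Fin (m + 3)) : ℕ)
      rw [Equiv.swap_apply_right, show P (e01 1) = e01 1 from Equiv.swap_apply_of_ne_of_ne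
        (fun e => by simpa [e01_val] using congrArg Fin.val e) (fun e => by simpa [e01_val] using congrArg Fin.val e),
        es_val, e01_val, e01_val]
      rfl
  have hp1 : ∀ s, (p1 s : Spn F 2) = blk (e0.trans es) (sPl s : Spn F 1) := fun s => by
    show emb (sPl s : Spn F 1) = _
    rw [emb_eq_blk, ← blk_comp, ← sPl_eq_e0]
  have agree : ∀ s, φ (sPl s) = θ (p1 s) := fun s => by
    have e1 : blk κ (p1 s) = (sPl s : Spn F (m + 2)) := by
      rw [hp1, blk_comp, sPl_eq_e0 (n := m + 1)]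
      congr 2
    have e2 : φ (sPl s) = T * θ (p1 s) * T⁻¹ := by
      rw [← e1]; exact DFunLike.congr_fun hconj (p1 s)
    have e3 := commute_of_perfect hperf2 hc θ' (θ (p1 s)) (fun g => by
      rw [hθ', hθ, hp1, blk_comp]
      refine blk_commute (fun i j => ?_) _ _
      intro e
      have := congrArg Fin.val e
      rw [e02_val] at this
      change 2 * (i : ℕ) = ((e01 (es (e0 j))) : ℕ) at this
      rw [e01_val, es_val, e0_val] at this
      omega) (permPl (Equiv.swap 0 1))
    rw [e2, show T * θ (p1 s) = θ (p1 s) * T from e3, mul_inv_cancel_right]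
  let σ := θ.comp (sPl (n := 1))
  let R : F → Γ := fun t => θ (qEl (t • eB 0))
  have hcomm : ∀ g s, φ g * σ s = σ s * φ g := fun g s => by
    refine commute_of_perfect hperf hc φ (σ s) (fun g => ?_) g
    rw [hφ]
    show emb g * π (θ (sPl s)) = π (θ (sPl s)) * emb g
    rw [hθ, ← sPl_eq_blk]
    exact ρW_injective <| Equiv.ext fun ⟨p, v⟩ => by simp only [map_mul, Equiv.Perm.mul_apply, ρ_emb, ρ_sPl]
  have hstab : ∀ g, αSp g (eB 0) = eB 0 → ∀ t, φ g * R t = R t * φ g := by
    intro g hg t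
    obtain ⟨u, d, g', rfl⟩ := exists_stab (A := g) (by rwa [fix_iff, split_eB_zero] at hg)
    have he : ∀ g'' y, φ (emb g'') * θ y = θ y * φ (emb g'') := fun g'' y =>
      (commute_of_perfect hperf2 hc θ (φ (emb g'')) (fun y => by
        rw [hθ, hφ, emb_eq_blk, emb_eq_blk, blk_comp]
        refine blk_commute (fun i j => ?_) _ _
        have hi := i.isLt
        intro e
        have := congrArg Fin.val e
        change ((e01 i : Fin (m + 3)) : ℕ) = ((es (es j) : Fin (m + 3)) : ℕ) at this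
        rw [e01_val, es_val, es_val] at this
        omega) y).symm
    have ha : ∀ d, φ (sPl (sa d)) * R t = R t * φ (sPl (sa d)) := fun d => by
      rw [agree]
      show θ (p1 (sa d)) * θ (qEl (t • eB 0)) = θ (qEl (t • eB 0)) * θ (p1 (sa d))
      rw [← map_mul, ← map_mul]
      refine congrArg θ (mul_inv_eq_iff_eq_mul.1 ?_)
      show emb (sPl (sa d)) * qEl (t • eB 0) * (emb (sPl (sa d)))⁻¹ = _
      rw [emb_qEl, map_smul, show αSp (sPl (sa d) : Spn F 1) (eB 0) = eB 0 by
        rw [fix_iff, split_eB_zero, sPl_a]; simp]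
    have hfix : ∀ u : Vec F (m + 1), π (φ (qEl u)) * π (R t) = π (R t) * π (φ (qEl u)) := fun u => by
      show π (φ (qEl u)) * π (θ _) = π (θ _) * π (φ (qEl u))
      rw [hφ, hθ, ← qEl_eq_blk]
      refine mul_inv_eq_iff_eq_mul.1 ?_
      rw [emb_qEl, map_smul, show αSp (qEl u) (eB 0) = eB 0 by rw [fix_iff, split_eB_zero, ρ_qEl]; simp]
    have hq : ⁅φ (qEl u), R t⁆ = 1 := by
      refine const_trick (fun u => ⁅φ (qEl u), R t⁆) (fun g'' u => ?_) (fun u w => ?_) u
      · rw [← emb_qEl, map_mul, map_mul, map_inv]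
        have e1 : φ (emb g'') * R t * (φ (emb g''))⁻¹ = R t := by
          rw [show φ (emb g'') * R t = R t * φ (emb g'') from he g'' _, mul_inv_cancel_right]
        conv_lhs => rw [← e1]
        rw [← conjugate_commutatorElement, conj_central (comm_mem_center hc (hfix u))]
      · rw [← comm_mul_left _ _ _ (comm_mem_center hc (hfix w)), ← map_mul, qEl_mul, map_mul,
          comm_mul_left _ _ _ (by
            rw [commutatorElement_eq_one_iff_mul_comm.2 (ha _)]; exact one_mem _),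
          commutatorElement_eq_one_iff_mul_comm.2 (ha _), mul_one]
    rw [map_mul, map_mul]
    calc φ (qEl u) * φ (sPl (sa d)) * φ (emb g') * R t
        = φ (qEl u) * φ (sPl (sa d)) * R t * φ (emb g') := by
          rw [mul_assoc _ (φ (emb g')), show φ (emb g') * R t = R t * φ (emb g') from he g' _, ← mul_assoc]
      _ = φ (qEl u) * R t * φ (sPl (sa d)) * φ (emb g') := by rw [mul_assoc (φ (qEl u)), ha, ← mul_assoc]
      _ = _ := by rw [commutatorElement_eq_one_iff_mul_comm.1 hq]; group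
  obtain ⟨a, ha0, ha1⟩ := hF
  obtain ⟨s, hs, -⟩ := section_of π φ σ R hφ (fun s => (hθ _).trans (sPl_eq_blk s).symm)
    (fun t => (hθ _).trans (qEl_eq_blk t).symm) hcomm
    (fun t u => by show θ _ = θ _ * θ _; rw [← map_mul, ← id_add])
    (fun g c hg t => by
      have hc0 : c ≠ 0 := fun e0 => by
        rw [e0, zero_smul] at hg
        have := congrFun ((LinearEquiv.map_eq_zero_iff _).1 hg) (Sum.inl 0)
        simp [eB] at this
      set l := Units.mk0 c hc0
      have h0 := hstab ((sPl (sh l))⁻¹ * g) (by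
        rw [αSp_mul, hg, show c • (eB 0 : Vec F (m + 2)) = αSp (sPl (sh l)) (eB 0) from (tor_e l).symm,
          αSp_inv]) t
      rw [map_mul, map_inv] at h0
      calc φ g * R t * (φ g)⁻¹
          = φ (sPl (sh l)) * ((φ (sPl (sh l)))⁻¹ * φ g * R t) * (φ g)⁻¹ := by group
        _ = φ (sPl (sh l)) * R t * (φ (sPl (sh l)))⁻¹ := by rw [h0]; group
        _ = R (c * t) := by
          rw [agree]
          show θ (p1 (sh l)) * θ _ * (θ (p1 (sh l)))⁻¹ = θ _
          rw [← map_inv θ, ← map_mul, ← map_mul]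
          refine congrArg θ ?_
          show emb (sPl (sh l)) * qEl (t • eB 0) * (emb (sPl (sh l)))⁻¹ = _
          rw [emb_qEl, map_smul, tor_e, smul_smul, mul_comm]; rfl)
    (fun c hc => by
      have hdet : (0 : F) * 0 - -c⁻¹ * c = 1 := by field_simp; ring
      obtain ⟨hg, hg'⟩ := α_pairs (m := m + 1) c hc hdet
      obtain ⟨k1, k2⟩ := α_pairs (m := 0) c hc hdet
      refine ⟨sPl (mk2 0 (-c⁻¹) c 0 hdet), sPl (sb c), hg, hg', ?_⟩
      rw [agree, agree]
      show θ _ * (θ _ * θ _ * (θ _)⁻¹) = θ _ * θ _ * (θ _)⁻¹ * θ _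
      simp only [← map_inv θ, ← map_mul]
      exact congrArg θ (id_pair c _ _ k1 k2))
    (Or.inl ⟨-a, neg_ne_zero.2 ha0, fun e => ha1 (neg_injective e)⟩)
    (fun d t => by show θ _ * θ _ = θ _ * θ _; rw [← map_mul, ← map_mul, id_up])
    (fun l t => by
      show θ _ * θ _ * (θ _)⁻¹ = θ _
      rw [← map_inv θ, ← map_mul, ← map_mul, id_tor, mul_inv_cancel_right])
    (fun t => by
      refine ⟨sPl (sa t), α_sPl_a t, ?_⟩
      rw [agree]
      show θ _ * θ _ * (θ _)⁻¹ = θ _ * θ _ * (θ _)⁻¹ * θ _ * θ _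
      simp only [← map_inv θ, ← map_mul]
      refine congrArg θ (mul_inv_eq_iff_eq_mul.2 ?_)
      rw [id_low, map_inv]; rfl)
  exact ⟨s, hs⟩

end CfsgLib.SpMult
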